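import Mathlib
import Groth.Prelude.Def_EtMil
universe u

namespace Groth.Agent.H7.Milnor

open TensorProduct

section
variable {B' B A' A : Type u} [CommRing B'] [CommRing B] [CommRing A'] [CommRing A]
  [Algebra B' B] [Algebra B' A'] [Algebra B A] [Algebra A' A] [Algebra B' A]
  [IsScalarTower B' B A] [IsScalarTower B' A' A]

omit [Algebra B' A] [IsScalarTower B' B A] [IsScalarTower B' A' A] in
theorem surj_B (hsq : EtMil.IsFibreSquare B' B A' A) : Function.Surjective (algebraMap B' B) := by
  intro b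
  obtain ⟨a', ha'⟩ := hsq.1 (algebraMap B A b)
  obtain ⟨b', ⟨hb', -⟩, -⟩ := hsq.2 b a' ha'.symm
  exact ⟨b', hb'⟩

theorem eq_of_eq (hsq : EtMil.IsFibreSquare B' B A' A) (x y : B')
    (h1 : algebraMap B' B x = algebraMap B' B y) (h2 : algebraMap B' A' x = algebraMap B' A' y) :
    x = y := by
  have hc : algebraMap B A (algebraMap B' B y) = algebraMap A' A (algebraMap B' A' y) := by
    rw [← IsScalarTower.algebraMap_apply, ← IsScalarTower.algebraMap_apply]
  obtain ⟨z, -, hz⟩ := hsq.2 _ _ hc
  rw [hz x ⟨h1, h2⟩, hz y ⟨rfl, rfl⟩]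

theorem twist_compat (j : B') (hj : algebraMap B' B j = 0) (a' : A') :
    algebraMap B A 0 = algebraMap A' A (a' * algebraMap B' A' j) := by
  rw [map_zero, map_mul, ← IsScalarTower.algebraMap_apply, IsScalarTower.algebraMap_apply B' B A,
    hj, map_zero, mul_zero]

/-- the element `(0, a' * j)` of the fibre product. -/
noncomputable def twist (hsq : EtMil.IsFibreSquare B' B A' A) (j : B')
    (hj : algebraMap B' B j = 0) (a' : A') : B' :=
  (hsq.2 0 (a' * algebraMap B' A' j) (twist_compat j hj a')).exists.choose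

theorem twist_B (hsq : EtMil.IsFibreSquare B' B A' A) (j : B')
    (hj : algebraMap B' B j = 0) (a' : A') : algebraMap B' B (twist hsq j hj a') = 0 :=
  (hsq.2 0 (a' * algebraMap B' A' j) (twist_compat j hj a')).exists.choose_spec.1

theorem twist_A' (hsq : EtMil.IsFibreSquare B' B A' A) (j : B')
    (hj : algebraMap B' B j = 0) (a' : A') :
    algebraMap B' A' (twist hsq j hj a') = a' * algebraMap B' A' j :=
  (hsq.2 0 (a' * algebraMap B' A' j) (twist_compat j hj a')).exists.choose_spec.2

theorem twist_one (hsq : EtMil.IsFibreSquare B' B A' A) (j : B')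
    (hj : algebraMap B' B j = 0) : twist hsq j hj 1 = j := by
  apply eq_of_eq hsq
  · rw [twist_B, hj]
  · rw [twist_A', one_mul]

theorem twist_add (hsq : EtMil.IsFibreSquare B' B A' A) (j : B')
    (hj : algebraMap B' B j = 0) (a₁ a₂ : A') :
    twist hsq j hj (a₁ + a₂) = twist hsq j hj a₁ + twist hsq j hj a₂ := by
  apply eq_of_eq hsq
  · rw [map_add, twist_B, twist_B, twist_B, add_zero]
  · rw [map_add, twist_A', twist_A', twist_A', add_mul]

theorem twist_smul (hsq : EtMil.IsFibreSquare B' B A' A) (j : B')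
    (hj : algebraMap B' B j = 0) (c : B') (a' : A') :
    twist hsq j hj (c • a') = c * twist hsq j hj a' := by
  apply eq_of_eq hsq
  · rw [map_mul, twist_B, twist_B, mul_zero]
  · rw [map_mul, twist_A', twist_A', Algebra.smul_def, mul_assoc]

/-- multiplication by `j ∈ J` factors through `A' ⊗ L'`. -/
noncomputable def mulJ (hsq : EtMil.IsFibreSquare B' B A' A) (j : B')
    (hj : algebraMap B' B j = 0) (L' : Type u) [AddCommGroup L'] [Module B' L'] :
    A' ⊗[B'] L' →ₗ[B'] L' :=
  TensorProduct.lift (LinearMap.mk₂ B' (fun a' l => twist hsq j hj a' • l)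
    (fun a₁ a₂ l => by rw [twist_add, add_smul])
    (fun c a' l => by rw [twist_smul, mul_smul])
    (fun a' l₁ l₂ => smul_add _ _ _)
    (fun c a' l => smul_comm _ _ _))

theorem mulJ_one_tmul (hsq : EtMil.IsFibreSquare B' B A' A) (j : B')
    (hj : algebraMap B' B j = 0) (L' : Type u) [AddCommGroup L'] [Module B' L'] (l : L') :
    mulJ hsq j hj L' ((1 : A') ⊗ₜ[B'] l) = j • l := by
  rw [mulJ, TensorProduct.lift.tmul, LinearMap.mk₂_apply, twist_one]

theorem S14950 (hsq : EtMil.IsFibreSquare B' B A' A)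
    (L' : Type u) [AddCommGroup L'] [Module B' L'] (l : L')
    (h1 : ((1 : B) ⊗ₜ[B'] l : B ⊗[B'] L') = 0) (h2 : ((1 : A') ⊗ₜ[B'] l : A' ⊗[B'] L') = 0) :
    (∀ j : B', algebraMap B' B j = 0 → j • l = 0) ∧
      l ∈ (RingHom.ker (algebraMap B' B)) • (⊤ : Submodule B' L') := by
  constructor
  · intro j hj
    rw [← mulJ_one_tmul hsq j hj L' l, h2, map_zero]
  · set J := RingHom.ker (algebraMap B' B) with hJ
    have hex : Function.Exact (J.subtype : J →ₗ[B'] B') (Algebra.linearMap B' B) := by
      intro x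
      rw [Algebra.linearMap_apply]
      constructor
      · intro hx; exact ⟨⟨x, hx⟩, rfl⟩
      · rintro ⟨y, rfl⟩; exact y.2
    have hsurj : Function.Surjective (Algebra.linearMap B' B) := surj_B hsq
    have hex' := rTensor_exact L' hex hsurj
    have h3 : (Algebra.linearMap B' B).rTensor L' ((1 : B') ⊗ₜ[B'] l) = 0 := by
      rw [LinearMap.rTensor_tmul, Algebra.linearMap_apply, map_one, h1]
    obtain ⟨x, hx⟩ := (hex' _).mp h3
    have h4 : l = TensorProduct.lid B' L' ((J.subtype : J →ₗ[B'] B').rTensor L' x) := by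
      rw [hx, TensorProduct.lid_tmul, one_smul]
    rw [h4]
    have key : ∀ y : (J : Type u) ⊗[B'] L',
        TensorProduct.lid B' L' ((J.subtype : J →ₗ[B'] B').rTensor L' y) ∈
          J • (⊤ : Submodule B' L') := by
      intro y
      induction y using TensorProduct.induction_on with
      | zero => simp
      | tmul j m =>
        rw [LinearMap.rTensor_tmul, TensorProduct.lid_tmul]
        exact Submodule.smul_mem_smul j.2 Submodule.mem_top
      | add y₁ y₂ hy₁ hy₂ =>
        rw [map_add, map_add]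
        exact Submodule.add_mem _ hy₁ hy₂
    exact key x

theorem S14949 (hsq : EtMil.IsFibreSquare B' B A' A)
    (L' : Type u) [AddCommGroup L'] [Module B' L']
    [Subsingleton (B ⊗[B'] L')] [Subsingleton (A' ⊗[B'] L')] : Subsingleton L' := by
  have h : ∀ l : L', (∀ j : B', algebraMap B' B j = 0 → j • l = 0) ∧
      l ∈ (RingHom.ker (algebraMap B' B)) • (⊤ : Submodule B' L') :=
    fun l => S14950 hsq L' l (Subsingleton.elim _ _) (Subsingleton.elim _ _)
  have hbot : (RingHom.ker (algebraMap B' B)) • (⊤ : Submodule B' L') = ⊥ := by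
    rw [eq_bot_iff, Submodule.smul_le]
    intro j hj m _
    rw [Submodule.mem_bot]
    exact (h m).1 j hj
  constructor
  intro x y
  have hx := (h x).2
  have hy := (h y).2
  rw [hbot, Submodule.mem_bot] at hx hy
  rw [hx, hy]

theorem S14951 (hsq : EtMil.IsFibreSquare B' B A' A)
    (D' : Type u) [CommRing D'] [Algebra B' D'] (x y : D')
    (hx : ((1 : B) ⊗ₜ[B'] x : B ⊗[B'] D') = 0) (hx' : ((1 : A') ⊗ₜ[B'] x : A' ⊗[B'] D') = 0)
    (hy : ((1 : B) ⊗ₜ[B'] y : B ⊗[B'] D') = 0) (hy' : ((1 : A') ⊗ₜ[B'] y : A' ⊗[B'] D') = 0) :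
    x * y = 0 := by
  have h1 := (S14950 hsq D' x hx hx').2
  have h2 := (S14950 hsq D' y hy hy').1
  have hle : (RingHom.ker (algebraMap B' B)) • (⊤ : Submodule B' D') ≤
      LinearMap.ker (LinearMap.mulRight B' y) := by
    rw [Submodule.smul_le]
    intro j hj d _
    rw [LinearMap.mem_ker, LinearMap.mulRight_apply, smul_mul_assoc, ← mul_smul_comm,
      h2 j hj, mul_zero]
  have := hle h1
  rwa [LinearMap.mem_ker, LinearMap.mulRight_apply] at this

/-- finitely many elements of `L'` generating the base change, for a finite base change. -/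
theorem exists_finset_gen (R : Type u) [CommRing R] [Algebra B' R]
    (L' : Type u) [AddCommGroup L'] [Module B' L'] [Module.Finite R (R ⊗[B'] L')] :
    ∃ T : Finset L', Submodule.span R ((fun l : L' => (1 : R) ⊗ₜ[B'] l) '' (T : Set L')) = ⊤ := by
  classical
  have hspan : Submodule.span R (Set.range fun l : L' => (1 : R) ⊗ₜ[B'] l) = ⊤ := by
    have hall : ∀ x : R ⊗[B'] L', x ∈ Submodule.span R (Set.range fun l : L' => (1 : R) ⊗ₜ[B'] l) := by
      intro x
      induction x using TensorProduct.induction_on with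
      | zero => exact zero_mem _
      | tmul r l =>
        have : r ⊗ₜ[B'] l = r • ((1 : R) ⊗ₜ[B'] l) := by
          rw [TensorProduct.smul_tmul', smul_eq_mul, mul_one]
        rw [this]
        exact Submodule.smul_mem _ _ (Submodule.subset_span ⟨l, rfl⟩)
      | add x y hx hy => exact Submodule.add_mem _ hx hy
    rw [eq_top_iff]
    intro x _
    exact hall x
  have hfg : (Submodule.span R (Set.range fun l : L' => (1 : R) ⊗ₜ[B'] l)).FG := by
    rw [hspan]; exact Module.Finite.fg_top
  obtain ⟨s', hs's, hss'⟩ := (Submodule.fg_span_iff_fg_span_finset_subset _).mp hfg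
  let g : R ⊗[B'] L' → L' := fun z =>
    if h : z ∈ Set.range (fun l : L' => (1 : R) ⊗ₜ[B'] l) then h.choose else 0
  refine ⟨s'.image g, ?_⟩
  rw [eq_top_iff, ← hspan, hss']
  apply Submodule.span_mono
  intro z hz
  have hz' := hs's hz
  refine ⟨g z, Finset.mem_coe.mpr (Finset.mem_image_of_mem g hz), ?_⟩
  simp only [g, dif_pos hz']
  exact hz'.choose_spec

theorem subsingleton_tensor_quotient (R : Type u) [CommRing R] [Algebra B' R]
    (L' : Type u) [AddCommGroup L'] [Module B' L'] (L'' : Submodule B' L') (T : Set L')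
    (hT : T ⊆ L'')
    (hgen : Submodule.span R ((fun l : L' => (1 : R) ⊗ₜ[B'] l) '' T) = ⊤) :
    Subsingleton (R ⊗[B'] (L' ⧸ L'')) := by
  have hex : Function.Exact L''.subtype L''.mkQ := by
    intro x
    rw [Submodule.mkQ_apply, Submodule.Quotient.mk_eq_zero]
    constructor
    · intro hx; exact ⟨⟨x, hx⟩, rfl⟩
    · rintro ⟨y, rfl⟩; exact y.2
  have hsurj : Function.Surjective L''.mkQ := Submodule.mkQ_surjective _
  have hex' := lTensor_exact R hex hsurj
  have hsurj' := LinearMap.lTensor_surjective R hsurj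
  have hrange : LinearMap.range (L''.subtype.baseChange R) = ⊤ := by
    rw [eq_top_iff, ← hgen, Submodule.span_le]
    rintro _ ⟨l, hl, rfl⟩
    exact ⟨(1 : R) ⊗ₜ[B'] (⟨l, hT hl⟩ : L''), rfl⟩
  have hz : ∀ z : R ⊗[B'] (L' ⧸ L''), z = 0 := by
    intro z
    obtain ⟨w, rfl⟩ := hsurj' z
    have hw : w ∈ LinearMap.range (L''.subtype.baseChange R) := by rw [hrange]; trivial
    obtain ⟨x, rfl⟩ := hw
    exact (hex' _).mpr ⟨x, rfl⟩
  exact ⟨fun a b => by rw [hz a, hz b]⟩

theorem S14953 (hsq : EtMil.IsFibreSquare B' B A' A)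
    (L' : Type u) [AddCommGroup L'] [Module B' L']
    [Module.Finite B (B ⊗[B'] L')] [Module.Finite A' (A' ⊗[B'] L')] : Module.Finite B' L' := by
  classical
  obtain ⟨T₁, hT₁⟩ := exists_finset_gen (B' := B') B L'
  obtain ⟨T₂, hT₂⟩ := exists_finset_gen (B' := B') A' L'
  set L'' : Submodule B' L' := Submodule.span B' ((T₁ ∪ T₂ : Finset L') : Set L') with hL''
  have h1 : Subsingleton (B ⊗[B'] (L' ⧸ L'')) :=
    subsingleton_tensor_quotient B L' L'' T₁
      (fun x hx => Submodule.subset_span (by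
        rw [Finset.coe_union]; exact Or.inl hx)) hT₁
  have h2 : Subsingleton (A' ⊗[B'] (L' ⧸ L'')) :=
    subsingleton_tensor_quotient A' L' L'' T₂
      (fun x hx => Submodule.subset_span (by
        rw [Finset.coe_union]; exact Or.inr hx)) hT₂
  have h3 : Subsingleton (L' ⧸ L'') := S14949 hsq (L' ⧸ L'')
  rw [Submodule.Quotient.subsingleton_iff] at h3
  rw [Module.finite_def, ← h3, hL'']
  exact Submodule.fg_span (Finset.finite_toSet _)

theorem S14955 (hsq : EtMil.IsFibreSquare B' B A' A) : Algebra.IsPushout B' B A' A := by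
  constructor
  unfold IsBaseChange IsTensorProduct
  have hform : ∀ z : B ⊗[B'] A', ∃ a' : A', z = (1 : B) ⊗ₜ[B'] a' := by
    intro z
    induction z using TensorProduct.induction_on with
    | zero => exact ⟨0, (TensorProduct.tmul_zero _ _).symm⟩
    | tmul b a' =>
      obtain ⟨b', rfl⟩ := surj_B hsq b
      refine ⟨b' • a', ?_⟩
      rw [← TensorProduct.smul_tmul, Algebra.smul_def, mul_one]
    | add x y hx hy =>
      obtain ⟨a₁, rfl⟩ := hx
      obtain ⟨a₂, rfl⟩ := hy
      exact ⟨a₁ + a₂, (TensorProduct.tmul_add _ _ _).symm⟩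
  constructor
  · rw [injective_iff_map_eq_zero]
    intro z hz
    obtain ⟨a', rfl⟩ := hform z
    simp only [TensorProduct.lift.tmul, LinearMap.coe_restrictScalars, LinearMap.flip_apply,
      Algebra.linearMap_apply, Module.algebraMap_end_apply, one_smul,
      AlgHom.toLinearMap_apply, IsScalarTower.coe_toAlgHom'] at hz
    have hc : algebraMap B A 0 = algebraMap A' A a' := by rw [map_zero, hz]
    obtain ⟨j, ⟨hj1, hj2⟩, -⟩ := hsq.2 0 a' hc
    rw [← hj2, Algebra.algebraMap_eq_smul_one, ← TensorProduct.smul_tmul, Algebra.smul_def,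
      mul_one, hj1, TensorProduct.zero_tmul]
  · intro a
    obtain ⟨a', rfl⟩ := hsq.1 a
    refine ⟨(1 : B) ⊗ₜ[B'] a', ?_⟩
    simp only [TensorProduct.lift.tmul, LinearMap.coe_restrictScalars, LinearMap.flip_apply,
      Algebra.linearMap_apply, Module.algebraMap_end_apply, one_smul,
      AlgHom.toLinearMap_apply, IsScalarTower.coe_toAlgHom']

end

section Conductor

variable (A A' : Type u) [CommRing A] [CommRing A'] [Algebra A A']

theorem map_cond_le (a' : A')
    (ha' : a' ∈ Ideal.map (algebraMap A A')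
      (Module.annihilator A (A' ⧸ LinearMap.range (Algebra.linearMap A A')))) :
    ∃ i ∈ Module.annihilator A (A' ⧸ LinearMap.range (Algebra.linearMap A A')),
      algebraMap A A' i = a' := by
  unfold Ideal.map at ha'
  induction ha' using Submodule.span_induction with
  | mem x hx =>
    obtain ⟨i, hi, rfl⟩ := hx
    exact ⟨i, hi, rfl⟩
  | zero => exact ⟨0, zero_mem _, map_zero _⟩
  | add x y _ _ hx hy =>
    obtain ⟨i, hi, rfl⟩ := hx
    obtain ⟨k, hk, rfl⟩ := hy
    exact ⟨i + k, add_mem hi hk, map_add _ _ _⟩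
  | smul c x _ hx =>
    obtain ⟨i, hi, rfl⟩ := hx
    rw [Module.mem_annihilator] at hi
    have h1 := hi (Submodule.Quotient.mk c)
    rw [← Submodule.Quotient.mk_smul, Submodule.Quotient.mk_eq_zero] at h1
    obtain ⟨d, hd⟩ := h1
    rw [Algebra.linearMap_apply] at hd
    refine ⟨d, ?_, ?_⟩
    · rw [Module.mem_annihilator]
      intro m
      obtain ⟨m, rfl⟩ := Submodule.Quotient.mk_surjective _ m
      have h2 := hi (Submodule.Quotient.mk (c * m))
      rw [← Submodule.Quotient.mk_smul] at h2 ⊢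
      rw [Algebra.smul_def, hd, Algebra.smul_def, mul_assoc, ← Algebra.smul_def]
      exact h2
    · rw [hd, Algebra.smul_def, smul_eq_mul, mul_comm]

theorem S14966 (hinj : Function.Injective (algebraMap A A')) :
    EtMil.IsFibreSquare A (A ⧸ Module.annihilator A (A' ⧸ LinearMap.range (Algebra.linearMap A A'))) A'
      (A' ⧸ Ideal.map (algebraMap A A') (Module.annihilator A (A' ⧸ LinearMap.range (Algebra.linearMap A A')))) := by
  refine ⟨Ideal.Quotient.mk_surjective, ?_⟩
  intro b a' hba
  obtain ⟨b0, rfl⟩ := Ideal.Quotient.mk_surjective b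
  rw [Ideal.Quotient.algebraMap_quotient_map_quotient, Ideal.Quotient.algebraMap_eq,
    Ideal.Quotient.eq] at hba
  obtain ⟨i, hi, hia⟩ := map_cond_le A A' _ hba
  refine ⟨b0 - i, ⟨?_, ?_⟩, ?_⟩
  · rw [Ideal.Quotient.algebraMap_eq, Ideal.Quotient.eq]
    simpa using hi
  · rw [map_sub, hia]; ring
  · rintro y ⟨-, hy⟩
    apply hinj
    rw [hy, map_sub, hia]; ring

end Conductor

end Groth.Agent.H7.Milnor
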