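import Groth.Agent.Lib.Helper7.Old.AS1

/-! Artin–Schreier extensions in characteristic two: the genus (helper7). -/

set_option autoImplicit false
set_option linter.unusedSectionVars false

namespace Groth.Agent.H7.AS

open FunFld WithZero Polynomial

variable {k F K : Type*} [Field k] [Field F] [Field K] [Algebra k F] [Algebra F K] [Algebra k K]
  [IsScalarTower k F K]

section involution

variable (hdeg : Module.finrank F K = 2)

include hdeg in
/-- the involution `y ↦ -1 - y` of `K = F(y)`, `y² + y ∈ F` -/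
theorem exists_involution_as {y : K} (hy : y ∉ Set.range (algebraMap F K)) {f : F}
    (heq : y ^ 2 + y = algebraMap F K f) : ∃ σ : K ≃ₐ[F] K, σ y = -1 - y := by
  haveI := QL.finiteDimensional_of_finrank hdeg
  have hdlt : (X - C f : F[X]).degree < ((2 : ℕ) : WithBot ℕ) :=
    lt_of_le_of_lt (degree_X_sub_C_le f) (by norm_num)
  have hmonic : (X ^ 2 + (X - C f) : F[X]).Monic := monic_X_pow_add hdlt
  have hnat : (X ^ 2 + (X - C f) : F[X]).natDegree = 2 := by
    rw [natDegree_add_eq_left_of_natDegree_lt (by rw [natDegree_X_sub_C, natDegree_X_pow]; norm_num),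
      natDegree_X_pow]
  have hroot : aeval y (X ^ 2 + (X - C f) : F[X]) = 0 := by
    rw [map_add, map_sub, map_pow, aeval_X, aeval_C, ← heq]
    ring
  have hint : IsIntegral F y := ⟨_, hmonic, hroot⟩
  have hnd : (minpoly F y).natDegree = 2 := by
    have h1 := minpoly.natDegree_le (A := F) y
    rw [hdeg] at h1
    have h3 := minpoly.natDegree_pos hint
    have h4 : (minpoly F y).natDegree ≠ 1 := by
      intro h
      exact hy (minpoly.natDegree_eq_one_iff.1 h)
    omega
  have hmin : X ^ 2 + (X - C f) = minpoly F y :=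
    eq_of_monic_of_dvd_of_natDegree_le (minpoly.monic hint) hmonic
      (minpoly.dvd F y hroot) (by rw [hnat, hnd])
  have htop : Algebra.adjoin F ({y} : Set K) = ⊤ := by
    rw [eq_top_iff]
    intro z _
    obtain ⟨a, b, rfl⟩ := QL.exists_repr hdeg hy z
    exact add_mem (Subalgebra.algebraMap_mem _ a)
      (mul_mem (Subalgebra.algebraMap_mem _ b) (Algebra.subset_adjoin rfl))
  set pb := PowerBasis.ofAdjoinEqTop hint htop with hpb
  have hgen : pb.gen = y := rfl
  have hroot' : aeval (-1 - y) (minpoly F pb.gen) = 0 := by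
    rw [hgen, ← hmin, map_add, map_sub, map_pow, aeval_X, aeval_C, ← heq]
    ring
  set τ : K →ₐ[F] K := pb.lift (-1 - y) hroot' with hτ
  have hτy : τ y = -1 - y := pb.lift_gen _ _
  exact ⟨AlgEquiv.ofBijective τ (Algebra.IsAlgebraic.algHom_bijective τ), hτy⟩

end involution

section local_

/-- at a pole of `f`, `2 ord_Q y = e ord_P f` -/
lemma two_mul_ord_y {Q : Place k K} {P : Place k F} {e : ℕ} (he : IsOverWith Q P e) {y : K}
    {f : F} (heq : y ^ 2 + y = algebraMap F K f) (hpole : 1 < P.1 f) :
    y ≠ 0 ∧ 2 * Q.ord y = e * P.ord f := by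
  have hv : 1 < Q.1 (algebraMap F K f) := by
    rw [← not_le, he.v_le_one_iff]
    exact not_le.2 hpole
  have hy1 : 1 < Q.1 y := by
    by_contra hle
    rw [not_lt] at hle
    have : Q.1 (y ^ 2 + y) ≤ 1 :=
      Valuation.map_add_le _ (by rw [map_pow]; exact pow_le_one' hle 2) hle
    rw [heq] at this
    exact absurd hv (not_lt.2 this)
  have hy0 : y ≠ 0 := by
    rintro rfl
    rw [map_zero] at hy1
    exact absurd hy1 (by simp)
  have hy10 : y + 1 ≠ 0 := by
    intro h0
    have : Q.1 y = 1 := by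
      rw [eq_neg_of_add_eq_zero_left h0, Valuation.map_neg, map_one]
    rw [this] at hy1
    exact lt_irrefl _ hy1
  have h3 : Q.1 (y + 1) = Q.1 y := Valuation.map_add_eq_of_lt_left _ (by rwa [map_one])
  have h4 : Q.ord (y + 1) = Q.ord y := by rw [Place.ord, Place.ord, h3]
  have h1 : Q.ord (algebraMap F K f) = 2 * Q.ord y := by
    rw [← heq, show y ^ 2 + y = y * (y + 1) by ring, Q.ord_mul hy0 hy10, h4]
    ring
  refine ⟨hy0, ?_⟩
  rw [← h1, he.ord_eq]

/-- away from the poles of `f`, `y` is integral -/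
lemma v_y_le_one {Q : Place k K} {P : Place k F} {e : ℕ} (he : IsOverWith Q P e) {y : K}
    {f : F} (heq : y ^ 2 + y = algebraMap F K f) (hint : P.1 f ≤ 1) : Q.1 y ≤ 1 := by
  by_contra hlt
  rw [not_le] at hlt
  have h1 : Q.1 (y + 1) = Q.1 y := Valuation.map_add_eq_of_lt_left _ (by rwa [map_one])
  have h2 : Q.1 (algebraMap F K f) ≤ 1 := (he.v_le_one_iff f).2 hint
  rw [← heq, show y ^ 2 + y = y * (y + 1) by ring, map_mul, h1] at h2
  exact absurd h2 (not_le.2 (Left.one_lt_mul_of_lt_of_le hlt hlt.le))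

/-- the local conditions at a pole of odd order `2j + 1` -/
theorem pole_local {Q : Place k K} {P : Place k F} (he : IsOverWith Q P 2) {y : K} {f : F}
    (heq : y ^ 2 + y = algebraMap F K f) (hpole : 1 < P.1 f) {j : ℕ}
    (hord : P.ord f = -(2 * (j : ℤ) + 1)) (n : ℤ) (a b : F) :
    Q.1 (algebraMap F K a + algebraMap F K b * y) ≤ exp (2 * n) ↔
      (P.1 a ≤ exp n ∧ P.1 b ≤ exp (n - (j + 1))) := by
  obtain ⟨hy0, hy⟩ := two_mul_ord_y he heq hpole
  have hyord : Q.ord y = -(2 * (j : ℤ) + 1) := by
    rw [hord] at hy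
    push_cast at hy
    linarith
  have hιinj : Function.Injective (algebraMap F K) := (algebraMap F K).injective
  have hva : Q.1 (algebraMap F K a) ≤ exp (2 * n) ↔ P.1 a ≤ exp n := by
    rcases eq_or_ne a 0 with rfl | ha
    · simp
    rw [he a, P.v_eq_exp_neg_ord ha, ← exp_nsmul, exp_le_exp, exp_le_exp]
    simp only [nsmul_eq_mul]
    push_cast
    constructor <;> intro h <;> linarith
  have hvb : Q.1 (algebraMap F K b * y) ≤ exp (2 * n) ↔ P.1 b ≤ exp (n - (j + 1)) := by
    rcases eq_or_ne b 0 with rfl | hb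
    · simp
    rw [map_mul, he b, P.v_eq_exp_neg_ord hb, Q.v_eq_exp_neg_ord hy0, hyord, ← exp_nsmul,
      ← exp_add, exp_le_exp, exp_le_exp]
    simp only [nsmul_eq_mul]
    push_cast
    constructor <;> intro h <;> omega
  have hmax : Q.1 (algebraMap F K a + algebraMap F K b * y) =
      max (Q.1 (algebraMap F K a)) (Q.1 (algebraMap F K b * y)) := by
    rcases eq_or_ne a 0 with rfl | ha
    · simp
    rcases eq_or_ne b 0 with rfl | hb
    · simp
    apply Valuation.map_add_of_distinct_val
    rw [map_mul, he a, he b, P.v_eq_exp_neg_ord ha, P.v_eq_exp_neg_ord hb,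
      Q.v_eq_exp_neg_ord hy0, hyord, ← exp_nsmul, ← exp_nsmul, ← exp_add]
    intro h
    rw [exp_inj] at h
    simp only [nsmul_eq_mul] at h
    push_cast at h
    omega
  rw [hmax, max_le_iff, hva, hvb]

end local_

section global

/-- the "half pole divisor" `A = ∑ ((m_P + 1)/2) P` over the poles of `f` -/
def IsHalfPole (f : F) (A : Divisor k F) : Prop :=
  ∀ P : Place k F, (1 < P.1 f → ∃ j : ℕ, P.ord f = -(2 * (j : ℤ) + 1) ∧ A P = (j : ℤ) + 1) ∧
    (P.1 f ≤ 1 → A P = 0)

theorem mem_L_conorm_iff (hF : IsFunctionField k F) (hdeg : Module.finrank F K = 2)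
    (h2 : ringChar k = 2) {y : K} (hy : y ∉ Set.range (algebraMap F K)) {f : F}
    (heq : y ^ 2 + y = algebraMap F K f) {A : Divisor k F} (hA : IsHalfPole f A)
    (D : Divisor k F) (a b : F) :
    algebraMap F K a + algebraMap F K b * y ∈ L (conorm K D) ↔ a ∈ L D ∧ b ∈ L (D - A) := by
  haveI := QL.finiteDimensional_of_finrank hdeg
  haveI : CharP k 2 := ringChar.of_eq h2
  haveI : CharP K 2 := charP_of_injective_algebraMap (algebraMap k K).injective 2
  have hF1 := hF.isFF1
  constructor
  · intro hz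
    obtain ⟨σ, hσ⟩ := exists_involution_as hdeg hy heq
    have hσz := QL.conj_mem_L_conorm hF1 D σ hz
    have hbmem : algebraMap F K b ∈ L (conorm K D) := by
      have h1 := Submodule.sub_mem _ hσz hz
      have h3 : σ (algebraMap F K a + algebraMap F K b * y) -
          (algebraMap F K a + algebraMap F K b * y) = algebraMap F K b := by
        rw [map_add, map_mul, σ.commutes, σ.commutes, hσ]
        have h2K : (2 : K) = 0 := CharTwo.two_eq_zero
        linear_combination (-(algebraMap F K b) - algebraMap F K b * y) * h2K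
      rwa [h3] at h1
    have hbD : b ∈ L D := (QL.algebraMap_mem_L_conorm_iff hF D b).1 hbmem
    have key : ∀ P : Place k F, P.1 a ≤ exp (D P) ∧ P.1 b ≤ exp ((D - A) P) := by
      intro P
      obtain ⟨Q, hQ⟩ := QL.exists_isOver (K := K) hF P
      have hzQ := hz Q
      by_cases hpole : 1 < P.1 f
      · obtain ⟨j, hj, hAP⟩ := (hA P).1 hpole
        have hf0 : f ≠ 0 := by
          rintro rfl
          rw [map_zero] at hpole
          exact absurd hpole (by simp)
        have hneg : P.ord f < 0 := by rw [hj]; omega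
        have he := QL.isOverWith_two_of_as hF hdeg heq hneg ⟨-(j : ℤ) - 1, by rw [hj]; ring⟩ hQ
        rw [conorm_apply hF1 D he] at hzQ
        have := (pole_local he heq hpole hj (D P) a b).1 (by exact_mod_cast hzQ)
        rw [Finsupp.sub_apply, hAP]
        exact this
      · rw [not_lt] at hpole
        have hAP := (hA P).2 hpole
        have he := hQ.isOverWith
        have hyQ := v_y_le_one he heq hpole
        rw [Finsupp.sub_apply, hAP, sub_zero]
        refine ⟨?_, hbD P⟩
        have hb1 : Q.1 (algebraMap F K b * y) ≤ exp (conorm K D Q) := by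
          rw [map_mul]
          calc Q.1 (algebraMap F K b) * Q.1 y ≤ Q.1 (algebraMap F K b) * 1 :=
                mul_le_mul' le_rfl hyQ
            _ = Q.1 (algebraMap F K b) := mul_one _
            _ ≤ _ := hbmem Q
        have ha1 : Q.1 (algebraMap F K a) ≤ exp (conorm K D Q) := by
          have : algebraMap F K a = (algebraMap F K a + algebraMap F K b * y) -
              algebraMap F K b * y := by ring
          rw [this]
          exact Valuation.map_sub_le _ hzQ hb1
        rw [conorm_apply hF1 D he, he a] at ha1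
        rcases eq_or_ne a 0 with rfl | ha
        · simp
        rw [P.v_eq_exp_neg_ord ha, ← exp_nsmul, exp_le_exp] at ha1
        rw [P.v_eq_exp_neg_ord ha, exp_le_exp]
        have hpos : (0 : ℤ) < ramIdx Q P := by exact_mod_cast hQ.ramIdx_pos
        rw [nsmul_eq_mul] at ha1
        exact le_of_mul_le_mul_left ha1 hpos
    exact ⟨fun P => (key P).1, fun P => (key P).2⟩
  · rintro ⟨ha, hb⟩ Q
    obtain ⟨P, e, he⟩ := exists_isOverWith hF1 Q
    rw [conorm_apply hF1 D he]
    have haP := ha P
    have hbP := hb P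
    by_cases hpole : 1 < P.1 f
    · obtain ⟨j, hj, hAP⟩ := (hA P).1 hpole
      have hneg : P.ord f < 0 := by rw [hj]; omega
      have he2 := QL.isOverWith_two_of_as hF hdeg heq hneg ⟨-(j : ℤ) - 1, by rw [hj]; ring⟩ ⟨e, he⟩
      have hee : e = 2 := (he.unique he2).2
      subst hee
      rw [Finsupp.sub_apply, hAP] at hbP
      have := (pole_local he heq hpole hj (D P) a b).2 ⟨haP, hbP⟩
      exact_mod_cast this
    · rw [not_lt] at hpole
      have hAP := (hA P).2 hpole
      rw [Finsupp.sub_apply, hAP, sub_zero] at hbP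
      have hyQ := v_y_le_one he heq hpole
      have hexp : exp ((e : ℤ) * D P) = exp (D P) ^ e := by
        rw [← exp_nsmul, nsmul_eq_mul]
      rw [hexp]
      refine Valuation.map_add_le _ ?_ ?_
      · rw [he a]
        exact pow_le_pow_left' haP e
      · rw [map_mul, he b]
        calc P.1 b ^ e * Q.1 y ≤ P.1 b ^ e * 1 := mul_le_mul' le_rfl hyQ
          _ = P.1 b ^ e := mul_one _
          _ ≤ _ := pow_le_pow_left' hbP e

/-- `ℓ_K(conorm D) = ℓ_F(D) + ℓ_F(D - A)` -/
theorem ell_conorm (hF : IsFunctionField k F) (hK : IsFunctionField k K)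
    (hdeg : Module.finrank F K = 2)
    (h2 : ringChar k = 2) {y : K} (hy : y ∉ Set.range (algebraMap F K)) {f : F}
    (heq : y ^ 2 + y = algebraMap F K f) {A : Divisor k F} (hA : IsHalfPole f A)
    (D : Divisor k F) : ell (conorm K D) = ell D + ell (D - A) := by
  have hιinj : Function.Injective (algebraMap F K) := (algebraMap F K).injective
  let ιₗ : F →ₗ[k] K := (IsScalarTower.toAlgHom k F K).toLinearMap
  have hιₗ : ∀ a : F, ιₗ a = algebraMap F K a := fun a => rfl
  let f₁ : L D →ₗ[k] K := ιₗ ∘ₗ (L D).subtype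
  let f₂ : L (D - A) →ₗ[k] K := (LinearMap.mulRight k y) ∘ₗ ιₗ ∘ₗ (L (D - A)).subtype
  let Φ : (L D × L (D - A)) →ₗ[k] K := f₁.coprod f₂
  have hΦ : ∀ p : L D × L (D - A),
      Φ p = algebraMap F K (p.1 : F) + algebraMap F K (p.2 : F) * y := fun p => by
    simp only [Φ, f₁, f₂, LinearMap.coprod_apply, LinearMap.coe_comp, Function.comp_apply,
      Submodule.subtype_apply, LinearMap.mulRight_apply, hιₗ]
  have hinj : Function.Injective Φ := by
    rw [← LinearMap.ker_eq_bot, LinearMap.ker_eq_bot']
    rintro ⟨a, b⟩ h0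
    rw [hΦ] at h0
    have hb0 : (b : F) = 0 := by
      by_contra hb0
      apply hy
      have hb' : algebraMap F K (b : F) ≠ 0 := by rwa [Ne, map_eq_zero_iff _ hιinj]
      refine ⟨-(a : F) / (b : F), ?_⟩
      rw [map_div₀, map_neg, eq_comm, eq_div_iff hb']
      linear_combination h0
    have ha0 : (a : F) = 0 := by
      simp only [hb0, map_zero, zero_mul, add_zero] at h0
      exact (map_eq_zero_iff _ hιinj).1 h0
    exact Prod.ext (Subtype.ext ha0) (Subtype.ext hb0)
  have hrange : LinearMap.range Φ = L (conorm K D) := by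
    ext z
    constructor
    · rintro ⟨⟨a, b⟩, rfl⟩
      rw [hΦ]
      exact (mem_L_conorm_iff hF hdeg h2 hy heq hA D _ _).2 ⟨a.2, b.2⟩
    · intro hz
      obtain ⟨a, b, rfl⟩ := QL.exists_repr hdeg hy z
      obtain ⟨ha, hb⟩ := (mem_L_conorm_iff hF hdeg h2 hy heq hA D a b).1 hz
      exact ⟨(⟨a, ha⟩, ⟨b, hb⟩), hΦ _⟩
  haveI := finiteDimensional_L hF D
  haveI := finiteDimensional_L hF (D - A)
  unfold ell
  rw [← hrange, LinearMap.finrank_range_of_inj hinj, Module.finrank_prod]

/-- the genus of an Artin–Schreier extension of a genus zero field in characteristic two -/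
theorem genus_as (hF : IsFunctionField k F) (hg0 : genus k F = 0) (hK : IsFunctionField k K)
    (hdeg : Module.finrank F K = 2)
    (h2 : ringChar k = 2) {y : K} (hy : y ∉ Set.range (algebraMap F K)) {f : F}
    (heq : y ^ 2 + y = algebraMap F K f) {A : Divisor k F} (hA : IsHalfPole f A) :
    (genus k K : ℤ) = A.deg - 1 := by
  haveI := QL.finiteDimensional_of_finrank hdeg
  obtain ⟨P₀⟩ := nonempty_place hF
  set n : ℕ := genus k K + A.deg.toNat + 1 with hn
  set D : Divisor k F := Finsupp.single P₀ (n : ℤ) with hD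
  have hdp : (1 : ℤ) ≤ P₀.deg := by exact_mod_cast P₀.deg_pos hF
  have hdD : (n : ℤ) ≤ D.deg := by
    rw [hD, Divisor.deg_single]
    have : (0 : ℤ) ≤ n := Int.natCast_nonneg _
    nlinarith
  have hAle : A.deg ≤ n := by
    have := Int.self_le_toNat A.deg
    rw [hn]; push_cast; omega
  have hgle : (genus k K : ℤ) ≤ n := by rw [hn]; push_cast; omega
  have h1 := ell_eq_of_large_deg hK (D := conorm K D) (by
    rw [deg_conorm hF, hdeg]; push_cast; omega)
  rw [deg_conorm hF, hdeg] at h1
  have h3 := ell_eq_of_large_deg hF (D := D) (by rw [hg0]; push_cast; omega)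
  have h4 := ell_eq_of_large_deg hF (D := D - A) (by
    rw [hg0, Divisor.deg_sub]; push_cast; omega)
  rw [hg0] at h3 h4
  rw [Divisor.deg_sub] at h4
  have h5 := ell_conorm hF hK hdeg h2 hy heq hA D
  rw [h5] at h1
  push_cast at h1 h3 h4
  linarith

end global

end Groth.Agent.H7.AS
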