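import Groth.Agent.Lib.Helper7.RF3
import Groth.Agent.Lib.Helper5.FunFld.Rational
import Mathlib.FieldTheory.Perfect
import Mathlib.FieldTheory.PerfectClosure

/-! Artin–Schreier extensions in characteristic two: reduction of even poles (helper7). -/

set_option autoImplicit false
set_option linter.unusedSectionVars false

namespace Groth.Agent.H7.AS

open FunFld WithZero Polynomial

section genus0

variable {k F : Type*} [Field k] [Field F] [Algebra k F] (hF : IsFunctionField k F)

include hF in
/-- in genus zero the leading coefficient map `L((m+1)P) → F_P` is surjective -/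
theorem exists_mem_L_residue (hg0 : genus k F = 0) (P : Place k F) (m : ℕ) {t : F}
    (ht : P.1 t = exp (-1)) (s : IsLocalRing.ResidueField P.O) :
    ∃ h : F, h ∈ L (Finsupp.single P ((m : ℤ) + 1) : Divisor k F) ∧
      ∃ hmem : P.1 (t ^ (m + 1) * h) ≤ 1,
        IsLocalRing.residue P.O ⟨t ^ (m + 1) * h, P.mem_O_iff.2 hmem⟩ = s := by
  classical
  set D : Divisor k F := Finsupp.single P ((m : ℤ) + 1) with hD
  set D' : Divisor k F := Finsupp.single P (m : ℤ) with hD'
  have hmemO : ∀ y : L D, P.1 (t ^ (m + 1) * (y : F)) ≤ 1 := by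
    intro y
    have := y.2 P
    have hDP : D P = (m : ℤ) + 1 := by rw [hD, Finsupp.single_eq_same]
    rw [hDP] at this
    rw [map_mul, map_pow, ht, ← exp_nsmul]
    calc exp ((m + 1) • (-1 : ℤ)) * P.1 (y : F) ≤ exp ((m + 1) • (-1 : ℤ)) * exp ((m : ℤ) + 1) :=
          mul_le_mul' le_rfl this
      _ = 1 := by rw [← exp_add, ← exp_zero]; congr 1; simp
  let ψ₀ : L D →ₗ[k] P.O :=
    { toFun := fun y => ⟨t ^ (m + 1) * (y : F), P.mem_O_iff.2 (hmemO y)⟩
      map_add' := fun y z => by
        apply Subtype.ext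
        simp [mul_add]
      map_smul' := fun c y => by
        apply Subtype.ext
        rw [RingHom.id_apply, P.coe_smul_O]
        simp [mul_smul_comm] }
  let ψ : L D →ₗ[k] IsLocalRing.ResidueField P.O := P.resₗ.comp ψ₀
  have hψ : ∀ y : L D, ψ y = IsLocalRing.residue P.O ⟨t ^ (m + 1) * (y : F),
      P.mem_O_iff.2 (hmemO y)⟩ := fun y => rfl
  have hle : L D' ≤ L D := L_mono (by
    intro Q
    rw [hD, hD', Finsupp.single_apply, Finsupp.single_apply]
    split_ifs <;> simp)
  have hker : LinearMap.ker ψ = Submodule.comap (L D).subtype (L D') := by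
    ext y
    rw [LinearMap.mem_ker, hψ, P.residue_eq_zero_iff, Submodule.mem_comap, Submodule.subtype_apply]
    change P.1 (t ^ (m + 1) * (y : F)) < 1 ↔ _
    rw [map_mul, map_pow, ht, ← exp_nsmul]
    constructor
    · intro h Q
      by_cases hQ : Q = P
      · subst hQ
        rw [hD', Finsupp.single_eq_same]
        rcases eq_or_ne (y : F) 0 with h0 | h0
        · rw [h0, map_zero]; exact zero_le'
        rw [Q.v_eq_exp_neg_ord h0, ← exp_add, ← exp_zero, exp_lt_exp] at h
        rw [Q.v_eq_exp_neg_ord h0, exp_le_exp]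
        simp only [nsmul_eq_mul] at h
        push_cast at h
        omega
      · have := y.2 Q
        have hDQ : D Q = 0 := by rw [hD, Finsupp.single_eq_of_ne hQ]
        rw [hDQ] at this
        rwa [hD', Finsupp.single_eq_of_ne hQ]
    · intro h
      have := h P
      rw [hD', Finsupp.single_eq_same] at this
      calc exp ((m + 1) • (-1 : ℤ)) * P.1 (y : F) ≤ exp ((m + 1) • (-1 : ℤ)) * exp (m : ℤ) :=
            mul_le_mul' le_rfl this
        _ < 1 := by
            rw [← exp_add, ← exp_zero, exp_lt_exp]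
            simp only [nsmul_eq_mul]
            push_cast
            omega
  have hfinD := finiteDimensional_L hF D
  have hfinD' := finiteDimensional_L hF D'
  let e : LinearMap.ker ψ ≃ₗ[k] L D' :=
    (LinearEquiv.ofEq _ _ hker).trans (Submodule.comapSubtypeEquivOfLe hle)
  have h4 := LinearMap.finrank_range_add_finrank_ker ψ
  have h5 : Module.finrank k (LinearMap.ker ψ) = ell D' := LinearEquiv.finrank_eq e
  have hdp : (0 : ℤ) < P.deg := by exact_mod_cast P.deg_pos hF
  have h6 := ell_eq_of_large_deg hF (D := D) (by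
    rw [hg0, hD, Divisor.deg_single]; push_cast; nlinarith)
  have h7 := ell_eq_of_large_deg hF (D := D') (by
    rw [hg0, hD', Divisor.deg_single]; push_cast; nlinarith)
  rw [hg0, hD, Divisor.deg_single] at h6
  rw [hg0, hD', Divisor.deg_single] at h7
  have hfinres := P.finiteDimensional_residueField hF
  have hrange : LinearMap.range ψ = ⊤ := by
    apply Submodule.eq_top_of_finrank_eq
    change _ = P.deg
    have h8 : (Module.finrank k (LinearMap.range ψ) : ℤ) + ell D' = ell D := by
      rw [← h5]; exact_mod_cast h4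
    have : (Module.finrank k (LinearMap.range ψ) : ℤ) = P.deg := by
      rw [← hD] at h6
      rw [← hD'] at h7
      push_cast at h6 h7
      linarith
    exact_mod_cast this
  obtain ⟨y, hy⟩ : s ∈ LinearMap.range ψ := by rw [hrange]; trivial
  exact ⟨y, y.2, hmemO y, hy⟩

include hF in
theorem exists_sq_residue [PerfectField k] (h2 : ringChar k = 2) (P : Place k F)
    (c : IsLocalRing.ResidueField P.O) : ∃ s : IsLocalRing.ResidueField P.O, s ^ 2 = c := by
  have hfin := P.finiteDimensional_residueField hF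
  haveI : CharP k 2 := ringChar.of_eq h2
  haveI : CharP (IsLocalRing.ResidueField P.O) 2 :=
    charP_of_injective_algebraMap (algebraMap k (IsLocalRing.ResidueField P.O)).injective 2
  haveI : ExpChar (IsLocalRing.ResidueField P.O) 2 := ExpChar.prime Nat.prime_two
  haveI : PerfectField (IsLocalRing.ResidueField P.O) := by
    letI : Algebra k (IsLocalRing.ResidueField P.O) := Place.algRes P
    haveI : @Module.Finite k (IsLocalRing.ResidueField P.O) _ _ (Place.algRes P).toModule := hfin
    haveI : Algebra.IsAlgebraic k (IsLocalRing.ResidueField P.O) :=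
      Algebra.IsAlgebraic.of_finite k _
    exact Algebra.IsAlgebraic.perfectField k
  obtain ⟨s, hs⟩ := surjective_frobenius (IsLocalRing.ResidueField P.O) 2 c
  exact ⟨s, by rwa [frobenius_def] at hs⟩

include hF in
/-- killing the leading term of an even pole -/
theorem exists_reduce [PerfectField k] (h2 : ringChar k = 2) (hg0 : genus k F = 0) (P : Place k F)
    {f : F} {m : ℕ} (hord : P.ord f = -(2 * ((m : ℤ) + 1))) :
    ∃ h : F, h ∈ L (Finsupp.single P ((m : ℤ) + 1) : Divisor k F) ∧ P.1 (f + h ^ 2) < P.1 f := by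
  have hf0 : f ≠ 0 := by
    rintro rfl
    simp [Place.ord] at hord
    omega
  obtain ⟨t, ht⟩ := P.exists_uniformizer
  have hvf : P.1 f = exp (2 * ((m : ℤ) + 1)) := by
    rw [P.v_eq_exp_neg_ord hf0, hord, neg_neg]
  have hvt : P.1 (t ^ (2 * (m + 1))) = exp (-(2 * ((m : ℤ) + 1))) := by
    rw [map_pow, ht, ← exp_nsmul]
    congr 1
    simp only [nsmul_eq_mul]
    push_cast
    ring
  have hu : P.1 (t ^ (2 * (m + 1)) * f) = 1 := by
    rw [map_mul, hvt, hvf, ← exp_add, ← exp_zero]
    congr 1
    ring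
  obtain ⟨s, hs⟩ := exists_sq_residue hF h2 P
    (IsLocalRing.residue P.O ⟨t ^ (2 * (m + 1)) * f, P.mem_O_iff.2 hu.le⟩)
  obtain ⟨h, hL, hmem, hres⟩ := exists_mem_L_residue hF hg0 P m ht s
  refine ⟨h, hL, ?_⟩
  haveI : CharP k 2 := ringChar.of_eq h2
  haveI : CharP (IsLocalRing.ResidueField P.O) 2 :=
    charP_of_injective_algebraMap (algebraMap k (IsLocalRing.ResidueField P.O)).injective 2
  have h0 : IsLocalRing.residue P.O (⟨t ^ (2 * (m + 1)) * f, P.mem_O_iff.2 hu.le⟩ +
      ⟨t ^ (m + 1) * h, P.mem_O_iff.2 hmem⟩ ^ 2) = 0 := by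
    rw [map_add, map_pow, hres, hs]
    exact CharTwo.add_self_eq_zero _
  rw [P.residue_eq_zero_iff] at h0
  have h1 : ((⟨t ^ (2 * (m + 1)) * f, P.mem_O_iff.2 hu.le⟩ +
      ⟨t ^ (m + 1) * h, P.mem_O_iff.2 hmem⟩ ^ 2 : P.O) : F) =
      t ^ (2 * (m + 1)) * (f + h ^ 2) := by
    change t ^ (2 * (m + 1)) * f + (t ^ (m + 1) * h) ^ 2 = _
    ring
  rw [h1, map_mul, hvt] at h0
  rw [hvf]
  have h3 := mul_lt_mul_of_pos_left h0 (a := exp (2 * ((m : ℤ) + 1))) exp_pos
  rw [← mul_assoc, ← exp_add, mul_one] at h3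
  simpa using h3

omit hF in
lemma deg_lt_of_le_of_lt (hF : IsFunctionField k F) {D D' : Divisor k F} (hle : D' ≤ D)
    (P : Place k F) (hlt : D' P < D P) : D'.deg < D.deg := by
  classical
  have h0 : (0 : Divisor k F) ≤ D - D' - Finsupp.single P 1 := by
    intro Q
    rw [Finsupp.sub_apply, Finsupp.sub_apply, Finsupp.single_apply]
    have := hle Q
    change (0 : ℤ) ≤ _
    split_ifs with hQ
    · subst hQ; omega
    · omega
  have h1 := Divisor.deg_nonneg h0
  rw [Divisor.deg_sub, Divisor.deg_sub, Divisor.deg_single] at h1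
  have hdp : (0 : ℤ) < P.deg := by exact_mod_cast P.deg_pos hF
  linarith

include hF in
/-- one reduction step: an even pole can be lowered -/
theorem exists_step [PerfectField k] (h2 : ringChar k = 2) (hg0 : genus k F = 0) {f : F}
    (P : Place k F) (hneg : P.ord f < 0) (heven : Even (P.ord f)) :
    ∃ h : F, (poleDiv (k := k) (f + h ^ 2 + h)).deg < (poleDiv (k := k) f).deg := by
  classical
  obtain ⟨j, hj⟩ := heven
  obtain ⟨m, hm⟩ : ∃ m : ℕ, P.ord f = -(2 * ((m : ℤ) + 1)) := by
    refine ⟨(-j - 1).toNat, ?_⟩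
    have : ((-j - 1).toNat : ℤ) = -j - 1 := Int.toNat_of_nonneg (by omega)
    rw [this]
    omega
  have hf0 : f ≠ 0 := by
    rintro rfl
    simp [Place.ord] at hneg
  obtain ⟨h, hL, hlt⟩ := exists_reduce hF h2 hg0 P hm
  refine ⟨h, ?_⟩
  have hvf : P.1 f = exp (2 * ((m : ℤ) + 1)) := by
    rw [P.v_eq_exp_neg_ord hf0, hm, neg_neg]
  have hhP : P.1 h ≤ exp ((m : ℤ) + 1) := by
    have := hL P
    rwa [Finsupp.single_eq_same] at this
  have hhQ : ∀ Q : Place k F, Q ≠ P → Q.1 h ≤ 1 := by
    intro Q hQ
    have := hL Q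
    rwa [Finsupp.single_eq_of_ne hQ, exp_zero] at this
  apply deg_lt_of_le_of_lt hF _ P
  · rw [poleDiv_apply hF, poleDiv_apply hF, hm]
    rcases eq_or_ne (f + h ^ 2 + h) 0 with h0 | h0
    · rw [h0]
      simp [Place.ord]
    have h1 : P.1 (f + h ^ 2 + h) < exp (2 * ((m : ℤ) + 1)) := by
      apply Valuation.map_add_lt _ (by rwa [← hvf])
      refine lt_of_le_of_lt hhP ?_
      rw [exp_lt_exp]
      omega
    rw [P.v_eq_exp_neg_ord h0, exp_lt_exp] at h1
    rw [max_lt_iff]
    constructor <;> omega
  · intro Q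
    rw [poleDiv_apply hF, poleDiv_apply hF]
    by_cases hQ : Q = P
    · subst hQ
      rcases eq_or_ne (f + h ^ 2 + h) 0 with h0 | h0
      · rw [h0]
        simp [Place.ord]
      have h1 : Q.1 (f + h ^ 2 + h) < exp (2 * ((m : ℤ) + 1)) := by
        apply Valuation.map_add_lt _ (by rwa [← hvf])
        refine lt_of_le_of_lt hhP ?_
        rw [exp_lt_exp]
        omega
      rw [Q.v_eq_exp_neg_ord h0, exp_lt_exp] at h1
      rw [hm]
      apply max_le_max _ le_rfl
      omega
    · rcases eq_or_ne (f + h ^ 2 + h) 0 with h0 | h0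
      · rw [h0]
        simp [Place.ord]
      have h1 : Q.1 (f + h ^ 2 + h) ≤ max (Q.1 f) 1 := by
        refine Valuation.map_add_le _ (Valuation.map_add_le _ (le_max_left _ _) ?_) ?_
        · rw [map_pow]
          exact (pow_le_one' (hhQ Q hQ) 2).trans (le_max_right _ _)
        · exact (hhQ Q hQ).trans (le_max_right _ _)
      rcases le_total (Q.1 f) 1 with hle | hle
      · rw [max_eq_right hle, Q.v_eq_exp_neg_ord h0, ← exp_zero, exp_le_exp] at h1
        exact max_le (h1.trans (le_max_right _ _)) (le_max_right _ _)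
      · rw [max_eq_left hle, Q.v_eq_exp_neg_ord h0, Q.v_eq_exp_neg_ord hf0, exp_le_exp] at h1
        exact max_le (h1.trans (le_max_left _ _)) (le_max_right _ _)

end genus0

section quad

variable {k F K : Type*} [Field k] [Field F] [Field K] [Algebra k F] [Algebra F K] [Algebra k K]
  [IsScalarTower k F K] (hF : IsFunctionField k F) (hdeg : Module.finrank F K = 2)

include hF in
/-- an Artin–Schreier generator can be normalized so that all poles are odd -/
theorem exists_odd_poles [PerfectField k] (h2 : ringChar k = 2) (hg0 : genus k F = 0) :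
    ∀ (n : ℕ) (y : K) (f : F), y ∉ Set.range (algebraMap F K) → y ^ 2 + y = algebraMap F K f →
      (poleDiv (k := k) f).deg.toNat = n →
      ∃ (y' : K) (f' : F), y' ∉ Set.range (algebraMap F K) ∧ y' ^ 2 + y' = algebraMap F K f' ∧
        ∀ P : Place k F, P.ord f' < 0 → Odd (P.ord f') := by
  intro n
  induction n using Nat.strong_induction_on with
  | _ n ih =>
    intro y f hy heq hn
    by_cases hall : ∀ P : Place k F, P.ord f < 0 → Odd (P.ord f)
    · exact ⟨y, f, hy, heq, hall⟩
    push_neg at hall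
    obtain ⟨P, hneg, hodd⟩ := hall
    rw [Int.not_odd_iff_even] at hodd
    obtain ⟨h, hlt⟩ := exists_step hF h2 hg0 P hneg hodd
    haveI : CharP k 2 := ringChar.of_eq h2
    haveI : CharP K 2 := charP_of_injective_algebraMap (algebraMap k K).injective 2
    have h0 : (0 : ℤ) ≤ (poleDiv (k := k) (f + h ^ 2 + h)).deg :=
      Divisor.deg_nonneg (poleDiv_nonneg _)
    have h0' : (0 : ℤ) ≤ (poleDiv (k := k) f).deg := Divisor.deg_nonneg (poleDiv_nonneg _)
    refine ih ((poleDiv (k := k) (f + h ^ 2 + h)).deg.toNat) (by omega) (y + algebraMap F K h)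
      (f + h ^ 2 + h) ?_ ?_ rfl
    · rintro ⟨w, hw⟩
      apply hy
      exact ⟨w - h, by rw [map_sub, hw]; ring⟩
    · rw [CharTwo.add_sq, map_add, map_add, map_pow, ← heq]
      ring

include hdeg in
/-- a separable quadratic extension in characteristic two is Artin–Schreier -/
theorem exists_as_generator (h2 : ringChar k = 2) [Algebra.IsSeparable F K] :
    ∃ (y : K) (f : F), y ∉ Set.range (algebraMap F K) ∧ y ^ 2 + y = algebraMap F K f := by
  haveI := QL.finiteDimensional_of_finrank hdeg
  haveI : CharP k 2 := ringChar.of_eq h2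
  haveI : CharP K 2 := charP_of_injective_algebraMap (algebraMap k K).injective 2
  haveI : CharP F 2 := charP_of_injective_algebraMap (algebraMap k F).injective 2
  have hιinj : Function.Injective (algebraMap F K) := (algebraMap F K).injective
  obtain ⟨z, hz⟩ : ∃ z : K, z ∉ Set.range (algebraMap F K) := by
    by_contra hall
    push_neg at hall
    have : (⊥ : Subalgebra F K) = ⊤ := by
      rw [eq_top_iff]
      intro w _
      exact Algebra.mem_bot.2 (hall w)
    rw [Subalgebra.bot_eq_top_iff_finrank_eq_one, hdeg] at this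
    omega
  obtain ⟨A, B, hAB⟩ := QL.exists_repr hdeg hz (z ^ 2)
  have hB : B ≠ 0 := by
    rintro rfl
    rw [map_zero, zero_mul, add_zero] at hAB
    have hsep : (minpoly F z).Separable := Algebra.IsSeparable.isSeparable F z
    rw [QL.minpoly_eq_of_sq hdeg hz hAB, separable_def] at hsep
    have hder : derivative (X ^ 2 - C A : F[X]) = 0 := by
      rw [derivative_sub, derivative_C, sub_zero, derivative_X_pow]
      simp only [Nat.cast_ofNat, Nat.add_one_sub_one, pow_one]
      rw [CharTwo.two_eq_zero, C_0, zero_mul]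
    rw [hder, isCoprime_zero_right] at hsep
    have := natDegree_eq_zero_of_isUnit hsep
    rw [natDegree_X_pow_sub_C] at this
    omega
  have hB' : algebraMap F K B ≠ 0 := by rwa [Ne, map_eq_zero_iff _ hιinj]
  refine ⟨z / algebraMap F K B, A / B ^ 2, ?_, ?_⟩
  · rintro ⟨w, hw⟩
    apply hz
    refine ⟨w * B, ?_⟩
    rw [map_mul, hw, div_mul_cancel₀ _ hB']
  · rw [map_div₀, map_pow, _root_.div_pow, hAB]
    field_simp
    have h2K : (2 : K) = 0 := CharTwo.two_eq_zero
    linear_combination (algebraMap F K B * z) * h2K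

end quad

end Groth.Agent.H7.AS
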