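import Groth.Agent.Lib.Helper7.IC4
import Groth.Agent.Lib.Helper7.FF1

/-! Constant field extensions: if `F_P ⊗ k'` is reduced then the integral closure of `O_P` in
`K' = k' K` is `O_P[k']` and all places over `P` are unramified (helper7). -/

set_option autoImplicit false

attribute [-instance] IsLocalRing.instModuleResidueFieldOfAlgebra

namespace Groth.Agent.H7.CE

universe u v u' v'

open FunFld WithZero Polynomial TensorProduct Groth.Agent.H7.IC Groth.Agent.H7.FF

variable {k : Type u} {k' : Type u'} {K : Type v} {K' : Type v'} [Field k] [Field k'] [Field K] [Field K']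
  [Algebra k k'] [FiniteDimensional k k'] [Algebra k K] [Algebra K K'] [Algebra k' K'] [Algebra k K']
  [IsScalarTower k k' K'] [IsScalarTower k K K']
  (P : Place k K) [Algebra P.O K'] [IsScalarTower P.O K K']

instance towerO : IsScalarTower k P.O K' := by
  refine IsScalarTower.of_algebraMap_eq (fun c => ?_)
  rw [IsScalarTower.algebraMap_apply k K K', algebraMap_O_apply]
  rfl

/-- `O_P ⊗ k' → K'`. -/
noncomputable def psi : P.O ⊗[k] k' →ₐ[P.O] K' :=
  Algebra.TensorProduct.lift (Algebra.ofId P.O K') (IsScalarTower.toAlgHom k k' K')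
    (fun _ _ => Commute.all _ _)

lemma psi_tmul (a : P.O) (c : k') :
    psi (K' := K') P (a ⊗ₜ c) = algebraMap K K' (a : K) * algebraMap k' K' c := by
  simp [psi, Algebra.ofId_apply, algebraMap_O_apply]

lemma psi_eq_prodK (z : P.O ⊗[k] k') :
    psi (K' := K') P z = prodK k k' K K'
      (Algebra.TensorProduct.map (IsScalarTower.toAlgHom k P.O K) (AlgHom.id k k') z) := by
  induction z using TensorProduct.induction_on with
  | zero => simp
  | tmul a c =>
    rw [psi_tmul, Algebra.TensorProduct.map_tmul, prodK_tmul]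
    rfl
  | add a b ha hb => rw [map_add, map_add, map_add, ha, hb]

lemma psi_injective (h : Function.Bijective (Algebra.TensorProduct.productMap
      (IsScalarTower.toAlgHom k k' K') (IsScalarTower.toAlgHom k K K'))) :
    Function.Injective (psi (K' := K') (k' := k') P) := by
  have h1 : Function.Injective
      (Algebra.TensorProduct.map (IsScalarTower.toAlgHom k P.O K) (AlgHom.id k k')) :=
    Module.Flat.rTensor_preserves_injective_linearMap (M := k')
      (IsScalarTower.toAlgHom k P.O K).toLinearMap Subtype.val_injective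
  intro z w hzw
  rw [psi_eq_prodK, psi_eq_prodK] at hzw
  exact h1 ((prodK_bijective h).1 hzw)

/-- `O_P ⊗ k' → F_P ⊗ k'`. -/
noncomputable def rho : P.O ⊗[k] k' →ₐ[P.O] (IsLocalRing.ResidueField P.O) ⊗[k] k' :=
  Algebra.TensorProduct.map (Algebra.ofId P.O (IsLocalRing.ResidueField P.O)) (AlgHom.id k k')

lemma rho_tmul (a : P.O) (c : k') :
    rho (k' := k') P (a ⊗ₜ c) = IsLocalRing.residue P.O a ⊗ₜ c := by
  simp [rho, Algebra.ofId_apply]

lemma smul_eq_zero_of_mem (a : P.O) (ha : a ∈ IsLocalRing.maximalIdeal P.O)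
    (w : (IsLocalRing.ResidueField P.O) ⊗[k] k') : a • w = 0 := by
  rw [Algebra.smul_def]
  have : algebraMap P.O ((IsLocalRing.ResidueField P.O) ⊗[k] k') a = 0 := by
    rw [Algebra.TensorProduct.algebraMap_apply]
    have : algebraMap P.O (IsLocalRing.ResidueField P.O) a = 0 := by
      rw [IsLocalRing.ResidueField.algebraMap_eq, IsLocalRing.residue_eq_zero_iff]; exact ha
    rw [this, zero_tmul]
  rw [this, zero_mul]

variable [FiniteDimensional K K']

/-- key: elements of `O_P ⊗ k'` landing in `𝔪_P B'` die in `F_P ⊗ k'`. -/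
theorem rho_eq_zero_of_inPiB [IsReduced ((IsLocalRing.ResidueField P.O) ⊗[k] k')]
    (hK : IsFunctionField k K)
    (h : Function.Bijective (Algebra.TensorProduct.productMap
      (IsScalarTower.toAlgHom k k' K') (IsScalarTower.toAlgHom k K K')))
    (z : P.O ⊗[k] k') (hz : InPiB P (psi (K' := K') P z)) : rho P z = 0 := by
  obtain ⟨t, ht⟩ := P.exists_uniformizer
  have ht0 : t ≠ 0 := by
    rintro rfl; rw [map_zero] at ht; exact exp_ne_zero ht.symm
  have ht1 : P.1 t ≤ 1 := by rw [ht, ← exp_zero, exp_le_exp]; norm_num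
  set tO : P.O := ⟨t, P.mem_O_iff.2 ht1⟩ with htO
  have htm : tO ∈ IsLocalRing.maximalIdeal P.O := by
    rw [P.mem_maximalIdeal_iff, ht, ← exp_zero, exp_lt_exp]; norm_num
  set b := psi (K' := K') P z / algebraMap K K' t with hb
  have hbB : InB P b := hz.div_uniformizer ht
  have hbint : IsIntegral P.O b := (mem_integralClosure_iff P hK b).2 hbB
  obtain ⟨p, hp1, hp2⟩ := hbint
  have hp2' : aeval b p = 0 := hp2
  have h1 := Polynomial.scaleRoots_aeval_eq_zero (r := tO) hp2'
  have h2 : algebraMap P.O K' tO * b = psi (K' := K') P z := by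
    rw [algebraMap_O_apply, hb]
    have : algebraMap K K' t ≠ 0 := by simpa using ht0
    rw [htO]
    field_simp
  rw [h2] at h1
  set q := scaleRoots p tO with hq
  have hqm : q.Monic := (monic_scaleRoots_iff tO).2 hp1
  have h3 : aeval z q = 0 := by
    apply psi_injective (K' := K') P h
    rw [← Polynomial.aeval_algHom_apply, h1, map_zero]
  have h4 : aeval (rho P z) q = 0 := by
    rw [Polynomial.aeval_algHom_apply, h3, map_zero]
  rw [Polynomial.aeval_eq_sum_range, Finset.sum_range_succ] at h4
  have h5 : ∑ i ∈ Finset.range q.natDegree, q.coeff i • rho P z ^ i = 0 := by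
    apply Finset.sum_eq_zero
    intro i hi
    rw [Finset.mem_range] at hi
    apply smul_eq_zero_of_mem
    rw [hq, coeff_scaleRoots]
    rw [natDegree_scaleRoots] at hi
    obtain ⟨j, hj⟩ : ∃ j, p.natDegree - i = j + 1 := ⟨p.natDegree - i - 1, by omega⟩
    rw [hj, pow_succ]
    exact Ideal.mul_mem_left _ _ (Ideal.mul_mem_left _ _ htm)
  rw [h5, zero_add, hqm.coeff_natDegree, one_smul] at h4
  exact IsReduced.eq_zero _ ⟨_, h4⟩

end Groth.Agent.H7.CE
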