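import Groth.Agent.Lib.Helper7.Old.CE1

/-! Constant field extensions with `F_P ⊗ k'` reduced: `B' = O_P[k']`, unramified (helper7). -/

set_option autoImplicit false

attribute [-instance] IsLocalRing.instModuleResidueFieldOfAlgebra

namespace Groth.Agent.H7.CE

universe u v u' v'

open FunFld WithZero Polynomial TensorProduct Groth.Agent.H7.IC Groth.Agent.H7.FF

variable {k : Type u} {k' : Type u'} {K : Type v} {K' : Type v'} [Field k] [Field k'] [Field K] [Field K']
  [Algebra k k'] [FiniteDimensional k k'] [Algebra k K] [Algebra K K'] [Algebra k' K'] [Algebra k K']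
  [IsScalarTower k k' K'] [IsScalarTower k K K']
  (P : Place k K) [Algebra P.O K'] [IsScalarTower P.O K K']

/-- constants are integral at every place -/
lemma v_const_le_one (Q : Place k K') (c : k') : Q.1 (algebraMap k' K' c) ≤ 1 := by
  rcases eq_or_ne c 0 with rfl | hc
  · simp
  · have halg : IsAlgebraic k (algebraMap k' K' c) := by
      have : IsAlgebraic k c := Algebra.IsAlgebraic.isAlgebraic c
      exact this.algebraMap
    have hne : algebraMap k' K' c ≠ 0 := by simpa using hc
    exact (v_eq_one_of_isAlgebraic Q.1 Q.v_algebraMap_le hne halg).le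

lemma inB_const (c : k') : InB P (algebraMap k' K' c) := fun Q _ => v_const_le_one Q c

/-- the element of `O_P ⊗ k'` with given coordinates -/
noncomputable def zOf (c : Fin (Module.finrank k k') → K) (hc : ∀ i, P.1 (c i) ≤ 1) :
    P.O ⊗[k] k' :=
  ∑ i, (⟨c i, P.mem_O_iff.2 (hc i)⟩ : P.O) ⊗ₜ[k] (Module.finBasis k k' i)

lemma psi_zOf (c : Fin (Module.finrank k k') → K) (hc : ∀ i, P.1 (c i) ≤ 1) :
    psi (K' := K') P (zOf P c hc) = ∑ i, c i • algebraMap k' K' (Module.finBasis k k' i) := by
  rw [zOf, map_sum]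
  refine Finset.sum_congr rfl (fun i _ => ?_)
  rw [psi_tmul, Algebra.smul_def]

lemma rho_zOf_eq_zero_iff (c : Fin (Module.finrank k k') → K) (hc : ∀ i, P.1 (c i) ≤ 1) :
    rho (k' := k') P (zOf P c hc) = 0 ↔ ∀ i, P.1 (c i) < 1 := by
  classical
  set B := Algebra.TensorProduct.basis (IsLocalRing.ResidueField P.O) (Module.finBasis k k')
    with hB
  have hrepr : ∀ j, B.repr (rho (k' := k') P (zOf P c hc)) j =
      IsLocalRing.residue P.O ⟨c j, P.mem_O_iff.2 (hc j)⟩ := by
    intro j
    rw [zOf, map_sum, map_sum, Finsupp.finset_sum_apply]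
    simp only [rho_tmul, hB, Algebra.TensorProduct.basis_repr_tmul, Module.Basis.repr_self]
    simp [Finsupp.single_apply]
  constructor
  · intro h i
    have := hrepr i
    rw [h, map_zero, Finsupp.zero_apply] at this
    exact (P.residue_eq_zero_iff ⟨c i, P.mem_O_iff.2 (hc i)⟩).1 this.symm
  · intro h
    apply B.repr.injective
    ext j
    rw [hrepr, map_zero, Finsupp.zero_apply]
    exact (P.residue_eq_zero_iff ⟨c j, P.mem_O_iff.2 (hc j)⟩).2 (h j)

variable [IsReduced ((IsLocalRing.ResidueField P.O) ⊗[k] k')]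

section
variable (hK : IsFunctionField k K)
  (h : Function.Bijective (Algebra.TensorProduct.productMap
      (IsScalarTower.toAlgHom k k' K') (IsScalarTower.toAlgHom k K K')))

include hK h

theorem indepMod_const :
    IndepMod P (fun i => algebraMap k' K' (Module.finBasis k k' i)) := by
  have := finiteDimensional_constExt h
  refine ⟨fun i => inB_const P _, fun c hc hsum => ?_⟩
  rw [← psi_zOf P c hc] at hsum
  exact (rho_zOf_eq_zero_iff P c hc).1 (rho_eq_zero_of_inPiB P hK h _ hsum)

/-- `B' = O_P[k']`: coordinates in `O_P`. -/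
theorem exists_coeff_const {y : K'} (hy : InB P y) :
    ∃ c : Fin (Module.finrank k k') → K, (∀ i, P.1 (c i) ≤ 1) ∧
      y = ∑ i, c i • algebraMap k' K' (Module.finBasis k k' i) := by
  have := finiteDimensional_constExt h
  exact (indepMod_const P hK h).exists_coeff (finrank_constExt h).symm hy

/-- `B'/𝔪_P B'` is reduced. -/
theorem inPiB_of_pow {y : K'} (hy : InB P y) (s : ℕ) (hs : InPiB P (y ^ s)) : InPiB P y := by
  have := finiteDimensional_constExt h
  obtain ⟨c, hc, rfl⟩ := exists_coeff_const P hK h hy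
  rw [← psi_zOf P c hc, ← map_pow] at hs
  have h1 := rho_eq_zero_of_inPiB P hK h _ hs
  rw [map_pow] at h1
  have h2 : rho (k' := k') P (zOf P c hc) = 0 := IsReduced.eq_zero _ ⟨s, h1⟩
  have h3 := (rho_zOf_eq_zero_iff P c hc).1 h2
  exact InPiB.sum _ _ (fun i _ => InPiB.of_smul (h3 i) (inB_const P _))

/-- all places over `P` are unramified. -/
theorem isOverWith_one {Q : Place k K'} (hQ : IsOver Q P) : IsOverWith Q P 1 := by
  classical
  have := finiteDimensional_constExt h
  have hfin := finite_isOver (K' := K') hK.isFF1 P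
  set Qs := hfin.toFinset with hQsdef
  have hQs : ∀ Q, Q ∈ Qs ↔ IsOver Q P := fun Q => by rw [hQsdef, Set.Finite.mem_toFinset]; rfl
  have he := hQ.isOverWith
  have hpos := hQ.ramIdx_pos
  suffices hle : ramIdx Q P ≤ 1 by
    have : ramIdx Q P = 1 := le_antisymm hle hpos
    rwa [this] at he
  obtain ⟨y, hy⟩ := Place.exists_approx_eq Qs (fun _ => 0)
    (fun Q' => if Q' = Q then -1 else -(ramIdx Q' P : ℤ))
  simp only [sub_zero] at hy
  have hyQ : Q.1 y = exp (-1) := by
    have := hy Q ((hQs Q).2 hQ)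
    rwa [if_pos rfl] at this
  have hyQ' : ∀ Q', IsOver Q' P → Q' ≠ Q → Q'.1 y = exp (-(ramIdx Q' P : ℤ)) := by
    intro Q' hQ' hne
    have := hy Q' ((hQs Q').2 hQ')
    rwa [if_neg hne] at this
  have hyB : InB P y := by
    intro Q' hQ'
    by_cases hne : Q' = Q
    · subst hne; rw [hyQ, ← exp_zero, exp_le_exp]; norm_num
    · rw [hyQ' Q' hQ' hne, ← exp_zero, exp_le_exp]; omega
  have hpow : InPiB P (y ^ ramIdx Q P) := by
    intro Q' hQ'
    by_cases hne : Q' = Q
    · subst hne
      rw [map_pow, hyQ, ← exp_nsmul]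
      apply le_of_eq; congr 1; simp
    · rw [map_pow, hyQ' Q' hQ' hne, ← exp_nsmul, exp_le_exp]
      have h1 : (1 : ℤ) ≤ ramIdx Q P := by exact_mod_cast hpos
      have h2 : (0 : ℤ) ≤ ramIdx Q' P := Int.natCast_nonneg _
      simp only [nsmul_eq_mul]
      nlinarith
  have h4 := inPiB_of_pow P hK h hyB _ hpow Q hQ
  rw [hyQ, exp_le_exp] at h4
  omega

end

end Groth.Agent.H7.CE
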