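import Groth.Agent.Lib.Helper7.Old.CE2

/-! Constant field extensions: separable cases (helper7). -/

set_option autoImplicit false

attribute [-instance] IsLocalRing.instModuleResidueFieldOfAlgebra

namespace Groth.Agent.H7.CE

universe u v u' v'

open FunFld WithZero Polynomial TensorProduct Groth.Agent.H7.IC Groth.Agent.H7.FF

variable {k : Type u} {k' : Type u'} {K : Type v} {K' : Type v'} [Field k] [Field k'] [Field K] [Field K']
  [Algebra k k'] [FiniteDimensional k k'] [Algebra k K] [Algebra K K'] [Algebra k' K'] [Algebra k K']
  [IsScalarTower k k' K'] [IsScalarTower k K K']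
  (P : Place k K) [Algebra P.O K'] [IsScalarTower P.O K K']

theorem integralClosure_eq_adjoin [IsReduced ((IsLocalRing.ResidueField P.O) ⊗[k] k')]
    (hK : IsFunctionField k K)
    (h : Function.Bijective (Algebra.TensorProduct.productMap
      (IsScalarTower.toAlgHom k k' K') (IsScalarTower.toAlgHom k K K'))) :
    (integralClosure P.O K').toSubring =
      (Algebra.adjoin P.O (Set.range (algebraMap k' K'))).toSubring := by
  have := finiteDimensional_constExt h
  congr 1
  apply le_antisymm
  · intro y hy
    rw [mem_integralClosure_iff P hK] at hy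
    obtain ⟨c, hc, rfl⟩ := exists_coeff_const P hK h hy
    refine Subalgebra.sum_mem _ (fun i _ => ?_)
    have : c i • algebraMap k' K' (Module.finBasis k k' i) =
        (⟨c i, P.mem_O_iff.2 (hc i)⟩ : P.O) • algebraMap k' K' (Module.finBasis k k' i) :=
      (O_smul_eq (K' := K') P ⟨c i, P.mem_O_iff.2 (hc i)⟩ _).symm
    rw [this]
    exact Subalgebra.smul_mem _ (Algebra.subset_adjoin (Set.mem_range_self _)) _
  · rw [Algebra.adjoin_le_iff]
    rintro _ ⟨c, rfl⟩
    exact (mem_integralClosure_iff P hK _).2 (inB_const P c)

instance isReduced_of_sep_ext [Algebra.IsSeparable k k'] :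
    IsReduced ((IsLocalRing.ResidueField P.O) ⊗[k] k') := by
  have : Algebra.FormallyUnramified k k' := Algebra.FormallyUnramified.of_isSeparable k k'
  exact Algebra.FormallyUnramified.isReduced_of_field (IsLocalRing.ResidueField P.O) _

omit [Algebra (↥P.O) K'] in
/-- the two `k`-module structures on the residue field agree -/
lemma module_eq : (Algebra.toModule : Module k (IsLocalRing.ResidueField P.O)) =
    @IsLocalRing.instModuleResidueFieldOfAlgebra P.O _ _ k _ (Place.algO P) := by
  apply Module.ext'
  intro c x
  obtain ⟨a, rfl⟩ := IsLocalRing.residue_surjective x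
  rw [Algebra.smul_def]
  rfl

lemma finite_residueField (hK : IsFunctionField k K) :
    Module.Finite k (IsLocalRing.ResidueField P.O) := by
  have := W.Place.finiteDimensional_residueField P hK.isFF1
  rw [module_eq]
  exact this

theorem isReduced_of_sep_res (hK : IsFunctionField k K)
    [Algebra.IsSeparable k (IsLocalRing.ResidueField P.O)] :
    IsReduced ((IsLocalRing.ResidueField P.O) ⊗[k] k') := by
  have := finite_residueField P hK
  have : Algebra.FormallyUnramified k (IsLocalRing.ResidueField P.O) :=
    Algebra.FormallyUnramified.of_isSeparable k _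
  have : IsReduced (k' ⊗[k] (IsLocalRing.ResidueField P.O)) :=
    Algebra.FormallyUnramified.isReduced_of_field k' _
  exact isReduced_of_injective (Algebra.TensorProduct.comm k (IsLocalRing.ResidueField P.O) k')
    (Algebra.TensorProduct.comm k (IsLocalRing.ResidueField P.O) k').injective

theorem result_sep_ext [Algebra.IsSeparable k k'] (hK : IsFunctionField k K)
    (h : Function.Bijective (Algebra.TensorProduct.productMap
      (IsScalarTower.toAlgHom k k' K') (IsScalarTower.toAlgHom k K K')))
    (Q : Place k K') (hQ : IsOver Q P) :
    (integralClosure P.O K').toSubring =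
      (Algebra.adjoin P.O (Set.range (algebraMap k' K'))).toSubring ∧ IsOverWith Q P 1 :=
  ⟨integralClosure_eq_adjoin P hK h, isOverWith_one P hK h hQ⟩

theorem result_sep_res [Algebra.IsSeparable k (IsLocalRing.ResidueField P.O)]
    (hK : IsFunctionField k K)
    (h : Function.Bijective (Algebra.TensorProduct.productMap
      (IsScalarTower.toAlgHom k k' K') (IsScalarTower.toAlgHom k K K'))) :
    (integralClosure P.O K').toSubring =
      (Algebra.adjoin P.O (Set.range (algebraMap k' K'))).toSubring := by
  have := isReduced_of_sep_res (k' := k') P hK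
  exact integralClosure_eq_adjoin P hK h

theorem isOverWith_one_sep_res [Algebra.IsSeparable k (IsLocalRing.ResidueField P.O)]
    (hK : IsFunctionField k K)
    (h : Function.Bijective (Algebra.TensorProduct.productMap
      (IsScalarTower.toAlgHom k k' K') (IsScalarTower.toAlgHom k K K')))
    {Q : Place k K'} (hQ : IsOver Q P) : IsOverWith Q P 1 := by
  have := isReduced_of_sep_res (k' := k') P hK
  exact isOverWith_one P hK h hQ

end Groth.Agent.H7.CE
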