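import Groth.Agent.Lib.Helper7.Old.CE3
import Groth.Agent.Lib.Helper7.Ram1

/-! Constant field extensions: conductor and finiteness of `R/R̃` (helper7). -/

set_option autoImplicit false

namespace Groth.Agent.H7.CE

universe u v u' v'

open FunFld WithZero Polynomial TensorProduct Groth.Agent.H7.IC Groth.Agent.H7.FF

variable {k : Type u} {k' : Type u'} {K : Type v} {K' : Type v'} [Field k] [Field k'] [Field K] [Field K']
  [Algebra k k'] [FiniteDimensional k k'] [Algebra k K] [Algebra K K'] [Algebra k' K'] [Algebra k K']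
  [IsScalarTower k k' K'] [IsScalarTower k K K']

/-- the constants span `K'` over `K`. -/
lemma exists_coeff_K (h : Function.Bijective (Algebra.TensorProduct.productMap
      (IsScalarTower.toAlgHom k k' K') (IsScalarTower.toAlgHom k K K'))) (y : K') :
    ∃ a : Fin (Module.finrank k k') → K,
      y = ∑ i, a i • algebraMap k' K' (Module.finBasis k k' i) := by
  obtain ⟨z, rfl⟩ := (prodK_bijective h).2 y
  set B := Algebra.TensorProduct.basis K (Module.finBasis k k') with hB
  refine ⟨fun i => B.repr z i, ?_⟩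
  conv_lhs => rw [← B.sum_repr z]
  rw [map_sum]
  refine Finset.sum_congr rfl (fun i _ => ?_)
  rw [map_smul, hB, Algebra.TensorProduct.basis_apply, prodK_tmul, map_one, one_mul]

/-- `t`-adic expansion to order `N` with coefficients from lifts of a residue basis. -/
lemma exists_expansion (P : Place k K) {t : K} (ht : P.1 t = exp (-1)) (a : Fin P.deg → K)
    (ha : ∀ c : K, P.1 c ≤ 1 → ∃ γ : Fin P.deg → k, P.1 (c - ∑ j, γ j • a j) < 1) (N : ℕ)
    (d : K) (hd : P.1 d ≤ 1) :
    ∃ (γ : Fin N → Fin P.deg → k) (d' : K), P.1 d' ≤ 1 ∧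
      d = (∑ s : Fin N, (∑ l, γ s l • a l) * t ^ (s : ℕ)) + t ^ N * d' := by
  induction N with
  | zero => exact ⟨fun s => s.elim0, d, hd, by simp⟩
  | succ N ih =>
    obtain ⟨γ, d', hd', hexp⟩ := ih
    obtain ⟨γ', hγ'⟩ := ha d' hd'
    rw [Groth.Agent.H7.Ram.lt_one_iff_le_exp] at hγ'
    obtain ⟨d'', hd'', hd''eq⟩ := Groth.Agent.H7.Ram.exists_eq_pow_mul P ht 1 (by simpa using hγ')
    refine ⟨Fin.snoc γ γ', d'', hd'', ?_⟩
    rw [Fin.sum_univ_castSucc]
    simp only [Fin.snoc_castSucc, Fin.snoc_last, Fin.val_castSucc, Fin.val_last]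
    rw [hexp]
    have : d' = (∑ l, γ' l • a l) + t * d'' := by
      rw [pow_one] at hd''eq
      rw [← hd''eq]; ring
    rw [this]; ring

variable (P : Place k K) [Algebra P.O K'] [IsScalarTower P.O K K']

theorem conductor_and_finite (hK : IsFunctionField k K)
    (h : Function.Bijective (Algebra.TensorProduct.productMap
      (IsScalarTower.toAlgHom k k' K') (IsScalarTower.toAlgHom k K K'))) :
    (∃ V : Submodule k K', FiniteDimensional k V ∧ ∀ r ∈ integralClosure P.O K',
        ∃ s ∈ Algebra.adjoin P.O (Set.range (algebraMap k' K')), r - s ∈ V) ∧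
    (∃ c ∈ integralClosure P.O K', c ≠ 0 ∧ ∀ r ∈ integralClosure P.O K',
        c * r ∈ Algebra.adjoin P.O (Set.range (algebraMap k' K'))) := by
  classical
  have := finiteDimensional_constExt h
  set n := Module.finrank k k' with hn
  set ω' : Fin n → K' := fun i => algebraMap k' K' (Module.finBasis k k' i) with hω'
  obtain ⟨t, ht⟩ := P.exists_uniformizer
  have ht0 : t ≠ 0 := by
    rintro rfl; rw [map_zero] at ht; exact exp_ne_zero ht.symm
  have ht1 : P.1 t ≤ 1 := by rw [ht, ← exp_zero, exp_le_exp]; norm_num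
  obtain ⟨m, hm, -, hspan⟩ := exists_basis (K' := K') hK P
  choose A hA using fun j => exists_coeff_K h (m j)
  -- a uniform exponent
  obtain ⟨N, hN⟩ : ∃ N : ℕ, ∀ i j, P.1 (t ^ N * A j i) ≤ 1 := by
    have : ∀ x : K, ∃ N : ℕ, ∀ M, N ≤ M → P.1 (t ^ M * x) ≤ 1 := by
      intro x
      rcases eq_or_ne x 0 with rfl | hx
      · exact ⟨0, fun M _ => by simp⟩
      · refine ⟨(-P.ord x).toNat, fun M hM => ?_⟩
        rw [map_mul, map_pow, ht, P.v_eq_exp_neg_ord hx, ← exp_nsmul, ← exp_add, ← exp_zero,
          exp_le_exp]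
        have := Int.self_le_toNat (-P.ord x)
        have hM' : ((-P.ord x).toNat : ℤ) ≤ M := by exact_mod_cast hM
        simp only [nsmul_eq_mul]
        linarith
    choose N0 hN0 using this
    refine ⟨Finset.univ.sup (fun ij : Fin n × Fin (Module.finrank K K') => N0 (A ij.2 ij.1)),
      fun i j => hN0 _ _ ?_⟩
    exact Finset.le_sup (f := fun ij : Fin n × Fin (Module.finrank K K') => N0 (A ij.2 ij.1))
      (Finset.mem_univ (i, j))
  -- membership in the adjoin
  have hadj : ∀ c : Fin n → K, (∀ i, P.1 (c i) ≤ 1) →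
      ∑ i, c i • ω' i ∈ Algebra.adjoin P.O (Set.range (algebraMap k' K')) := by
    intro c hc
    refine Subalgebra.sum_mem _ (fun i _ => ?_)
    have : c i • ω' i = (⟨c i, P.mem_O_iff.2 (hc i)⟩ : P.O) • ω' i :=
      (O_smul_eq (K' := K') P ⟨c i, P.mem_O_iff.2 (hc i)⟩ _).symm
    rw [this]
    exact Subalgebra.smul_mem _ (Algebra.subset_adjoin (Set.mem_range_self _)) _
  -- t^N r in terms of ω'
  have hkey : ∀ r, InB P r → ∃ d : Fin n → K, (∀ i, P.1 (d i) ≤ 1) ∧
      algebraMap K K' (t ^ N) * r = ∑ i, d i • ω' i := by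
    intro r hr
    obtain ⟨c, hc1, hc2⟩ := hspan r hr
    refine ⟨fun i => ∑ j, c j * (t ^ N * A j i), fun i => ?_, ?_⟩
    · apply Valuation.map_sum_le
      intro j _
      rw [map_mul]
      exact mul_le_one' (hc1 j) (hN i j)
    · rw [hc2, Finset.mul_sum]
      simp only [Finset.sum_smul]
      rw [Finset.sum_comm]
      refine Finset.sum_congr rfl (fun j _ => ?_)
      conv_lhs => rw [hA j]
      rw [Finset.smul_sum, Finset.mul_sum]
      refine Finset.sum_congr rfl (fun i _ => ?_)
      rw [smul_smul, Algebra.smul_def, Algebra.smul_def, map_mul, map_mul, map_mul]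
      simp only [hω']
      ring
  obtain ⟨a, ha1, ha2⟩ := exists_residue_lifts hK P
  constructor
  · refine ⟨Submodule.span k (Set.range (fun x : Fin n × Fin N × Fin P.deg =>
        (a x.2.2 * t ^ (x.2.1 : ℕ) / t ^ N) • ω' x.1)),
      FiniteDimensional.span_of_finite k (Set.finite_range _), ?_⟩
    intro r hr
    rw [mem_integralClosure_iff P hK] at hr
    obtain ⟨d, hd1, hd2⟩ := hkey r hr
    choose γ d' hd' hexp using fun i => exists_expansion P ht a ha2 N (d i) (hd1 i)
    refine ⟨∑ i, d' i • ω' i, hadj d' hd', ?_⟩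
    have hr' : r = ∑ i, (d i / t ^ N) • ω' i := by
      have htN : algebraMap K K' (t ^ N) ≠ 0 := by simpa using pow_ne_zero N ht0
      have : r = (algebraMap K K' (t ^ N))⁻¹ * (algebraMap K K' (t ^ N) * r) := by
        field_simp
      rw [this, hd2, Finset.mul_sum]
      refine Finset.sum_congr rfl (fun i _ => ?_)
      rw [Algebra.smul_def, Algebra.smul_def, ← mul_assoc, ← map_inv₀, ← map_mul]
      congr 2
      field_simp
    have hsub : r - ∑ i, d' i • ω' i =
        ∑ i, ∑ s : Fin N, ∑ l, γ i s l • ((a l * t ^ (s : ℕ) / t ^ N) • ω' i) := by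
      rw [hr', ← Finset.sum_sub_distrib]
      refine Finset.sum_congr rfl (fun i _ => ?_)
      rw [← sub_smul]
      have htN : t ^ N ≠ 0 := pow_ne_zero N ht0
      have : d i / t ^ N - d' i = ∑ s : Fin N, ∑ l, γ i s l • (a l * t ^ (s : ℕ) / t ^ N) := by
        conv_lhs => rw [hexp i]
        rw [add_div, mul_div_cancel_left₀ _ htN, add_sub_cancel_right, Finset.sum_div]
        refine Finset.sum_congr rfl (fun s _ => ?_)
        rw [Finset.sum_mul, Finset.sum_div]
        refine Finset.sum_congr rfl (fun l _ => ?_)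
        rw [Algebra.smul_def, Algebra.smul_def]
        ring
      rw [this, Finset.sum_smul]
      refine Finset.sum_congr rfl (fun s _ => ?_)
      rw [Finset.sum_smul]
      refine Finset.sum_congr rfl (fun l _ => ?_)
      rw [smul_assoc]
    rw [hsub]
    refine Submodule.sum_mem _ (fun i _ => Submodule.sum_mem _ (fun s _ =>
      Submodule.sum_mem _ (fun l _ => Submodule.smul_mem _ _
        (Submodule.subset_span ⟨(i, s, l), rfl⟩))))
  · refine ⟨algebraMap K K' (t ^ N), ?_, by simpa using pow_ne_zero N ht0, ?_⟩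
    · rw [mem_integralClosure_iff P hK]
      have : InB P ((t ^ N) • (1 : K')) :=
        InB.smul (by rw [map_pow]; exact pow_le_one' ht1 N) InB.one
      rwa [Algebra.smul_def, mul_one] at this
    · intro r hr
      rw [mem_integralClosure_iff P hK] at hr
      obtain ⟨d, hd1, hd2⟩ := hkey r hr
      rw [hd2]
      exact hadj d hd1

end Groth.Agent.H7.CE
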