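import Mathlib

namespace Groth.Agent.H7.CycH1

open groupCohomology CategoryTheory

universe u

variable {k G : Type u} [CommRing k] [Group G] (A : Rep.{u} k G) (g : G)

/-- partial norm sums. -/
noncomputable def S (l : ℕ) : A.V →ₗ[k] A.V := ∑ i ∈ Finset.range l, A.ρ (g ^ i)

lemma S_apply (l : ℕ) (x : A.V) : S A g l x = ∑ i ∈ Finset.range l, A.ρ (g ^ i) x := by
  rw [S, LinearMap.sum_apply]

lemma S_one (x : A.V) : S A g 1 x = x := by
  rw [S_apply]; simp

lemma S_add (l m : ℕ) (x : A.V) : S A g (l + m) x = S A g l x + A.ρ (g ^ l) (S A g m x) := by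
  rw [S_apply, S_apply, S_apply, Finset.sum_range_add, map_sum]
  congr 1
  apply Finset.sum_congr rfl
  intro i _
  rw [pow_add, map_mul, Module.End.mul_apply]

lemma S_add_mul (x : A.V) (hx : S A g (orderOf g) x = 0) (l q : ℕ) :
    S A g (l + orderOf g * q) x = S A g l x := by
  induction q with
  | zero => simp
  | succ q ih =>
    rw [Nat.mul_succ, ← add_assoc, S_add, hx, map_zero, add_zero, ih]

lemma S_congr (x : A.V) (hx : S A g (orderOf g) x = 0) {l l' : ℕ} (h : g ^ l = g ^ l') :
    S A g l x = S A g l' x := by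
  rw [pow_eq_pow_iff_modEq] at h
  rw [← Nat.mod_add_div l (orderOf g), ← Nat.mod_add_div l' (orderOf g), S_add_mul A g x hx,
    S_add_mul A g x hx, h]

lemma cocycle_pow (f : cocycles₁ A) (l : ℕ) : f (g ^ l) = S A g l (f g) := by
  induction l with
  | zero => simp [S_apply]
  | succ l ih =>
    rw [pow_succ', (mem_cocycles₁_iff f).1 f.2 g (g ^ l), ih, S_apply, S_apply, map_sum,
      Finset.sum_range_succ']
    congr 1
    · apply Finset.sum_congr rfl
      intro i _
      rw [pow_succ', map_mul, Module.End.mul_apply]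
    · simp

lemma cocycle_norm (f : cocycles₁ A) : S A g (orderOf g) (f g) = 0 := by
  rw [← cocycle_pow, pow_orderOf_eq_one, cocycles₁_map_one]

section
variable [Finite G] (hg : ∀ x : G, x ∈ Subgroup.zpowers g)
include hg

lemma exists_pow_eq (y : G) : ∃ l : ℕ, g ^ l = y := by
  have h1 : y ∈ Submonoid.powers g :=
    mem_powers_iff_mem_zpowers.mpr (hg y)
  exact (Submonoid.mem_powers_iff y g).mp h1

lemma cocycle_ext {f f' : cocycles₁ A} (h : f g = f' g) : f = f' := by
  apply cocycles₁_ext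
  intro y
  obtain ⟨l, rfl⟩ := exists_pow_eq g hg y
  rw [cocycle_pow, cocycle_pow, h]

lemma exists_cocycle (x : A.V) (hx : S A g (orderOf g) x = 0) :
    ∃ f : cocycles₁ A, f g = x := by
  classical
  choose L hL using exists_pow_eq g hg
  refine ⟨⟨fun y => S A g (L y) x, ?_⟩, ?_⟩
  · rw [mem_cocycles₁_iff]
    intro y z
    have h1 : g ^ L (y * z) = g ^ (L y + L z) := by rw [hL, pow_add, hL, hL]
    show S A g (L (y * z)) x = A.ρ y (S A g (L z) x) + S A g (L y) x
    rw [S_congr A g x hx h1, S_add, hL, add_comm]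
  · show S A g (L g) x = x
    have h1 : g ^ L g = g ^ 1 := by rw [hL, pow_one]
    rw [S_congr A g x hx h1, S_one]

/-- evaluation at the generator. -/
noncomputable def ev : cocycles₁ A →ₗ[k] LinearMap.ker (S A g (orderOf g)) where
  toFun f := ⟨f g, cocycle_norm A g f⟩
  map_add' f f' := rfl
  map_smul' c f := rfl

omit hg in
lemma ev_apply (f : cocycles₁ A) : ((ev A g f : LinearMap.ker (S A g (orderOf g))) : A.V) = f g :=
  rfl

lemma ev_bijective : Function.Bijective (ev A g) := by
  constructor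
  · intro f f' h
    exact cocycle_ext A g hg (congrArg Subtype.val h)
  · rintro ⟨x, hx⟩
    obtain ⟨f, hf⟩ := exists_cocycle A g hg x hx
    exact ⟨f, Subtype.ext hf⟩

/-- the class map `ker N → H¹`. -/
noncomputable def cls : LinearMap.ker (S A g (orderOf g)) →ₗ[k] H1 A :=
  (H1π A).hom ∘ₗ ((LinearEquiv.ofBijective (ev A g) (ev_bijective A g hg)).symm :
    LinearMap.ker (S A g (orderOf g)) ≃ₗ[k] cocycles₁ A).toLinearMap

lemma cls_ev (f : cocycles₁ A) : cls A g hg (ev A g f) = H1π A f := by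
  rw [cls, LinearMap.comp_apply]
  congr 1
  exact (LinearEquiv.ofBijective (ev A g) (ev_bijective A g hg)).symm_apply_apply f

lemma cls_surjective : Function.Surjective (cls A g hg) := by
  intro y
  induction y using H1_induction_on with
  | h f => exact ⟨ev A g f, cls_ev A g hg f⟩

lemma cls_eq_zero_iff (x : LinearMap.ker (S A g (orderOf g))) :
    cls A g hg x = 0 ↔ ∃ h : A.V, A.ρ g h - h = x := by
  obtain ⟨f, rfl⟩ := (ev_bijective A g hg).2 x
  rw [cls_ev, H1π_eq_zero_iff]
  constructor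
  · rintro ⟨h, hh⟩
    refine ⟨h, ?_⟩
    have := congrFun hh g
    rw [ev_apply, ← this]; rfl
  · rintro ⟨h, hh⟩
    refine ⟨h, ?_⟩
    have h1 : (⟨(d₀₁ A).hom h, d₀₁_apply_mem_cocycles₁ h⟩ : cocycles₁ A) = f := by
      apply cocycle_ext A g hg
      rw [ev_apply] at hh
      rw [← hh]; rfl
    exact congrArg (fun f : cocycles₁ A => (f : G → A.V)) h1

lemma cls_natural {B : Rep.{u} k G} (φ : A ⟶ B) (x : LinearMap.ker (S A g (orderOf g)))
    (y : LinearMap.ker (S B g (orderOf g))) (hxy : φ.hom (x : A.V) = (y : B.V)) :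
    (groupCohomology.map (MonoidHom.id G) φ 1).hom (cls A g hg x) = cls B g hg y := by
  obtain ⟨f, rfl⟩ := (ev_bijective A g hg).2 x
  rw [cls_ev]
  have h1 := H1π_comp_map_apply (MonoidHom.id G) φ f
  rw [h1]
  rw [← cls_ev B g hg]
  congr 1
  apply Subtype.ext
  rw [ev_apply, ← hxy, ev_apply]
  rfl

end

end Groth.Agent.H7.CycH1
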