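import Groth.Agent.Lib.Helper7.RF4
import Groth.Agent.Lib.Helper7.DE1

/-! Derivatives of rational functions and their orders at the places of `k(x)` (helper7). -/

set_option autoImplicit false
set_option linter.unusedSectionVars false

namespace Groth.Agent.H7.RF

open FunFld WithZero Polynomial

section ratfunc

variable {k : Type*} [Field k]

local notation "φ" => algebraMap k[X] (RatFunc k)

/-- numerator of the derivative of `a / b` -/
noncomputable def wron (a b : k[X]) : k[X] := derivative a * b - a * derivative b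

/-- the derivative of a rational function -/
noncomputable def rder (f : RatFunc k) : RatFunc k :=
  φ (wron f.num f.denom) / (φ f.denom) ^ 2

lemma KD_poly (a : k[X]) : KaehlerDifferential.D k (RatFunc k) (φ a) =
    φ (derivative a) • KaehlerDifferential.D k (RatFunc k) RatFunc.X := by
  have := Derivation.map_aeval (KaehlerDifferential.D k (RatFunc k)) a (RatFunc.X : RatFunc k)
  rwa [RatFunc.aeval_X_left_eq_algebraMap, RatFunc.aeval_X_left_eq_algebraMap] at this

theorem KD_eq (f : RatFunc k) : KaehlerDifferential.D k (RatFunc k) f =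
    rder f • KaehlerDifferential.D k (RatFunc k) RatFunc.X := by
  have hden : φ f.denom ≠ 0 := RatFunc.algebraMap_ne_zero (RatFunc.denom_ne_zero f)
  conv_lhs => rw [← RatFunc.num_div_denom f]
  rw [Derivation.leibniz_div, KD_poly, KD_poly, rder, wron, smul_smul, smul_smul, ← sub_smul,
    smul_smul, map_sub, map_mul, map_mul]
  congr 1
  field_simp

/-- the Euler operator `X d/dX` -/
lemma natDegree_X_mul_derivative_le (a : k[X]) : (X * derivative a).natDegree ≤ a.natDegree := by
  rcases Nat.eq_zero_or_pos a.natDegree with h | h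
  · rw [derivative_of_natDegree_zero h, mul_zero, natDegree_zero]; exact Nat.zero_le _
  · have h1 := natDegree_derivative_lt (p := a) (by omega)
    have h2 := natDegree_mul_le (p := (X : k[X])) (q := derivative a)
    rw [natDegree_X] at h2
    omega

lemma coeff_X_mul_derivative (a : k[X]) :
    (X * derivative a).coeff a.natDegree = a.leadingCoeff * (a.natDegree : k) := by
  rcases Nat.eq_zero_or_pos a.natDegree with h | h
  · rw [h, coeff_X_mul_zero, Nat.cast_zero, mul_zero]
  · obtain ⟨n, hn⟩ : ∃ n, a.natDegree = n + 1 := ⟨a.natDegree - 1, by omega⟩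
    rw [hn, coeff_X_mul, coeff_derivative, leadingCoeff, hn]
    push_cast
    ring

/-- the degree of the Wronskian `a' b - a b'` when `deg a - deg b` is nonzero in `k` -/
theorem natDegree_wron {a b : k[X]} (ha : a ≠ 0) (hb : b ≠ 0)
    (hne : (a.natDegree : k) ≠ (b.natDegree : k)) :
    wron a b ≠ 0 ∧ (wron a b).natDegree + 1 = a.natDegree + b.natDegree := by
  have hX : X * wron a b = (X * derivative a) * b - a * (X * derivative b) := by
    rw [wron]; ring
  have h1 : ((X * derivative a) * b).coeff (a.natDegree + b.natDegree) =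
      a.leadingCoeff * (a.natDegree : k) * b.leadingCoeff := by
    rw [coeff_mul_add_eq_of_natDegree_le (natDegree_X_mul_derivative_le a) le_rfl,
      coeff_X_mul_derivative, coeff_natDegree]
  have h2 : (a * (X * derivative b)).coeff (a.natDegree + b.natDegree) =
      a.leadingCoeff * (b.leadingCoeff * (b.natDegree : k)) := by
    rw [coeff_mul_add_eq_of_natDegree_le le_rfl (natDegree_X_mul_derivative_le b),
      coeff_X_mul_derivative, coeff_natDegree]
  have hcoeff : (X * wron a b).coeff (a.natDegree + b.natDegree) ≠ 0 := by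
    rw [hX, coeff_sub, h1, h2]
    have : a.leadingCoeff * (a.natDegree : k) * b.leadingCoeff -
        a.leadingCoeff * (b.leadingCoeff * (b.natDegree : k)) =
        a.leadingCoeff * b.leadingCoeff * ((a.natDegree : k) - (b.natDegree : k)) := by ring
    rw [this]
    exact mul_ne_zero (mul_ne_zero (leadingCoeff_ne_zero.2 ha) (leadingCoeff_ne_zero.2 hb))
      (sub_ne_zero.2 hne)
  have hw0 : wron a b ≠ 0 := by
    intro h0
    rw [h0, mul_zero, coeff_zero] at hcoeff
    exact hcoeff rfl
  refine ⟨hw0, ?_⟩
  have hle : (X * wron a b).natDegree ≤ a.natDegree + b.natDegree := by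
    rw [hX]
    refine (natDegree_sub_le _ _).trans (max_le ?_ ?_)
    · exact natDegree_mul_le.trans (Nat.add_le_add_right (natDegree_X_mul_derivative_le a) _)
    · exact natDegree_mul_le.trans (Nat.add_le_add_left (natDegree_X_mul_derivative_le b) _)
  have hge : a.natDegree + b.natDegree ≤ (X * wron a b).natDegree :=
    le_natDegree_of_ne_zero hcoeff
  rw [natDegree_X_mul hw0] at hle hge
  omega

variable (P : Place k (RatFunc k))

/-- at the infinite place, `ord f' = ord f + 1` when `ord f` is nonzero in `k` -/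
theorem ord_rder_pole (hX : 1 < P.1 RatFunc.X) {f : RatFunc k} (hf : f ≠ 0)
    (hne : ((P.ord f : ℤ) : k) ≠ 0) : rder f ≠ 0 ∧ P.ord (rder f) = P.ord f + 1 := by
  have hnum : f.num ≠ 0 := RatFunc.num_ne_zero hf
  have hden : f.denom ≠ 0 := RatFunc.denom_ne_zero f
  have hordf : P.ord f = -(f.num.natDegree : ℤ) + f.denom.natDegree := by
    conv_lhs => rw [← RatFunc.num_div_denom f]
    rw [P.ord_div (RatFunc.algebraMap_ne_zero hnum) (RatFunc.algebraMap_ne_zero hden),
      ord_poly_of_pole P hX hnum, ord_poly_of_pole P hX hden, ord_X_of_pole P hX]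
    ring
  have hne' : (f.num.natDegree : k) ≠ (f.denom.natDegree : k) := by
    intro h
    apply hne
    rw [hordf]
    push_cast
    rw [h]
    ring
  obtain ⟨hw0, hw⟩ := natDegree_wron hnum hden hne'
  have hr0 : rder f ≠ 0 := by
    rw [rder]
    exact div_ne_zero (RatFunc.algebraMap_ne_zero hw0)
      (pow_ne_zero _ (RatFunc.algebraMap_ne_zero hden))
  refine ⟨hr0, ?_⟩
  rw [rder, P.ord_div (RatFunc.algebraMap_ne_zero hw0)
    (pow_ne_zero _ (RatFunc.algebraMap_ne_zero hden)), P.ord_pow, ord_poly_of_pole P hX hw0,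
    ord_poly_of_pole P hX hden, ord_X_of_pole P hX, hordf]
  have : ((wron f.num f.denom).natDegree : ℤ) + 1 = f.num.natDegree + f.denom.natDegree := by
    exact_mod_cast hw
  push_cast
  linarith

lemma ord_pow_mul (hX : P.1 RatFunc.X ≤ 1) {p : k[X]} (hp : Irreducible p)
    (hpv : P.1 (φ p) < 1) (n : ℕ) {c : k[X]} (hc : ¬ p ∣ c) : P.ord (φ (p ^ n * c)) = n := by
  have hc0 : c ≠ 0 := by
    rintro rfl
    exact hc (dvd_zero _)
  rw [map_mul, map_pow, P.ord_mul (pow_ne_zero _ (RatFunc.algebraMap_ne_zero hp.ne_zero))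
    (RatFunc.algebraMap_ne_zero hc0), P.ord_pow, ord_irreducible P hp hpv,
    (P.v_eq_one_iff (RatFunc.algebraMap_ne_zero hc0)).1
      (v_poly_eq_one_of_not_dvd P hX hp hpv hc), add_zero, mul_one]

/-- at a finite place with separable center, `ord f' = ord f - 1` at a pole of `f` whose order is
nonzero in `k` -/
theorem ord_rder_finite (hX : P.1 RatFunc.X ≤ 1) {p : k[X]} (hp : Irreducible p)
    (hpv : P.1 (φ p) < 1) (hsep : derivative p ≠ 0) {f : RatFunc k} (hpole : 1 < P.1 f)
    (hne : ((P.ord f : ℤ) : k) ≠ 0) : rder f ≠ 0 ∧ P.ord (rder f) = P.ord f - 1 := by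
  have hf : f ≠ 0 := by
    rintro rfl
    rw [map_zero] at hpole
    exact absurd hpole (by simp)
  have hneg : P.ord f < 0 := by
    have := (P.v_le_one_iff hf).not.1 (not_le.2 hpole)
    omega
  have hnum : f.num ≠ 0 := RatFunc.num_ne_zero hf
  have hden : f.denom ≠ 0 := RatFunc.denom_ne_zero f
  obtain ⟨n, c, hc, hbc⟩ := WfDvdMonoid.max_power_factor hden hp
  obtain ⟨na, c', hc', hac⟩ := WfDvdMonoid.max_power_factor hnum hp
  have hordb : P.ord (φ f.denom) = n := by rw [hbc]; exact ord_pow_mul P hX hp hpv n hc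
  have horda : P.ord (φ f.num) = na := by rw [hac]; exact ord_pow_mul P hX hp hpv na hc'
  have hordf : P.ord f = (na : ℤ) - n := by
    conv_lhs => rw [← RatFunc.num_div_denom f]
    rw [P.ord_div (RatFunc.algebraMap_ne_zero hnum) (RatFunc.algebraMap_ne_zero hden), horda,
      hordb]
  have hn0 : n ≠ 0 := by
    rintro rfl
    rw [hordf] at hneg
    push_cast at hneg
    omega
  have hna : na = 0 := by
    by_contra hna0
    have h1 : p ∣ f.num := by
      rw [hac]
      exact Dvd.dvd.mul_right (dvd_pow_self p hna0) _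
    have h2 : p ∣ f.denom := by
      rw [hbc]
      exact Dvd.dvd.mul_right (dvd_pow_self p hn0) _
    exact hp.not_isUnit ((RatFunc.isCoprime_num_denom f).isUnit_of_dvd' h1 h2)
  subst hna
  rw [pow_zero, one_mul] at hac
  have hpa : ¬ p ∣ f.num := by rw [hac]; exact hc'
  obtain ⟨m', rfl⟩ : ∃ m', n = m' + 1 := ⟨n - 1, by omega⟩
  have hmk : ((m' + 1 : ℕ) : k) ≠ 0 := by
    intro h
    apply hne
    rw [hordf]
    push_cast at h ⊢
    rw [h]
    ring
  have hpp' : ¬ p ∣ derivative p := by
    intro hdvd
    have := natDegree_le_of_dvd hdvd hsep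
    have h3 := natDegree_derivative_lt (p := p) (by
      intro h0
      apply hsep
      rw [derivative_of_natDegree_zero h0])
    omega
  set h : k[X] := p * (derivative f.num * c - f.num * derivative c) -
    C ((m' + 1 : ℕ) : k) * (f.num * derivative p * c) with hh
  have hwron : wron f.num f.denom = p ^ m' * h := by
    rw [wron, hh]
    conv_lhs => rw [hbc]
    rw [derivative_mul, derivative_pow, Nat.add_sub_cancel]
    ring
  have hph : ¬ p ∣ h := by
    intro hdvd
    have h1 : p ∣ C ((m' + 1 : ℕ) : k) * (f.num * derivative p * c) := by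
      have h2 : C ((m' + 1 : ℕ) : k) * (f.num * derivative p * c) =
          p * (derivative f.num * c - f.num * derivative c) - h := by rw [hh]; ring
      rw [h2]
      exact dvd_sub (dvd_mul_right _ _) hdvd
    rw [(Polynomial.isUnit_C.2 (IsUnit.mk0 _ hmk)).dvd_mul_left] at h1
    rcases hp.prime.dvd_or_dvd h1 with h3 | h3
    · rcases hp.prime.dvd_or_dvd h3 with h4 | h4
      · exact hpa h4
      · exact hpp' h4
    · exact hc h3
  have hordw : P.ord (φ (wron f.num f.denom)) = m' := by
    rw [hwron]; exact ord_pow_mul P hX hp hpv m' hph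
  have hw0 : wron f.num f.denom ≠ 0 := by
    rw [hwron]
    refine mul_ne_zero (pow_ne_zero _ hp.ne_zero) ?_
    rintro h0
    exact hph (h0 ▸ dvd_zero _)
  have hr0 : rder f ≠ 0 := by
    rw [rder]
    exact div_ne_zero (RatFunc.algebraMap_ne_zero hw0)
      (pow_ne_zero _ (RatFunc.algebraMap_ne_zero hden))
  refine ⟨hr0, ?_⟩
  rw [rder, P.ord_div (RatFunc.algebraMap_ne_zero hw0)
    (pow_ne_zero _ (RatFunc.algebraMap_ne_zero hden)), P.ord_pow, hordw, hordb, hordf]
  push_cast
  ring

end ratfunc

end Groth.Agent.H7.RF
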